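import Cfsg.Agent.APU.Sd
import Cfsg.Agent.PLocal.CsA

/-!
The final contradiction for two `L₂(q)`-blocks interchanged by an element of `N(B)`.
-/

set_option autoImplicit false
set_option linter.unusedSectionVars false

namespace Cfsg.Agent.PLocal.Bk.APU

open Subgroup Cfsg Cfsg.Agent.PLocal.Amb
open Cfsg.Agent.PLocal.CP (IsCharP)
open Cfsg.Agent.CL2 (TM)

variable {G : Type*} [Group G] [Finite G]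

/-- Two sides interchanged by `x`. -/
structure Tw (B K K' U U' : Subgroup G) (x : G) : Prop where
  lc : LC G
  s : Sd B K U U'
  s' : Sd B K' U' U
  bot : ∀ d ∈ B, d ∈ 𝐂[K] → d ∈ 𝐂[K'] → d = 1
  xB : x ∈ 𝐍[B]
  xU : x ∉ 𝐍[U]
  e : cj(x, K) = K'

theorem conj_sq {g b : G} (h : b * b = 1) : g * b * g⁻¹ * (g * b * g⁻¹) = 1 := by
  rw [show g * b * g⁻¹ * (g * b * g⁻¹) = g * (b * b) * g⁻¹ by group, h, mul_one, mul_inv_cancel]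

theorem conj_ne {g b : G} (h : b ≠ 1) : g * b * g⁻¹ ≠ 1 := by simpa using h

theorem core_le {B : Subgroup G} (hB : IsPGroup 2 B) {C : Subgroup G}
    (h : ∀ u ∈ C, cj(u, B ⊓ C) ≤ 𝐍[B] → cj(u⁻¹, B ⊓ C) ≤ 𝐍[B] → u ∈ 𝐍[B]) :
    pCoreOf 2 C ≤ 𝐍[B] := by
  have hP : IsPGroup 2 ↥(B ⊓ C ⊔ pCoreOf 2 C) := isPGroup_sup (hB.to_le inf_le_left)
    (isPGroup_pCoreOf 2 C) (inf_le_right.trans (le_normalizer_pCoreOf 2 C))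
  have h1 : B ⊓ C ≤ (B ⊓ C ⊔ pCoreOf 2 C) ⊓ 𝐍[B] :=
    le_inf le_sup_left (inf_le_left.trans le_normalizer)
  refine le_sup_right.trans (inf_eq_left.1 (eq_of_inf_normalizer_le hP inf_le_left fun u hu =>
    ⟨hu.1, h u (sup_le inf_le_right (pCoreOf_le 2 C) hu.1) ?_ ?_⟩))
  · exact (cj_le_of_mem_normalizer h1 hu.2).trans inf_le_right
  · exact (cj_le_of_mem_normalizer h1 (inv_mem (mem_inf.1 hu).2)).trans inf_le_right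

theorem mem_core {B C : Subgroup G} (hC : IsCharP 2 C) (h1 : pCoreOf 2 C ≤ 𝐍[B])
    (h2 : pCoreOf 2 C ⊓ B = ⊥) {z : G} (hz : z ∈ B) (hz' : z ∈ C) : z = 1 := by
  refine mem_bot.1 (h2 ▸ mem_inf.2 ⟨hC ⟨hz', fun r hr => ?_⟩, hz⟩)
  have : r * z * r⁻¹ * z⁻¹ ∈ pCoreOf 2 C ⊓ B :=
    mem_inf.2 ⟨by
      rw [mul_assoc r, mul_assoc r]
      exact mul_mem hr (conj_mem_of_mem_normalizer (le_normalizer_pCoreOf 2 C hz') (inv_mem hr)),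
    mul_mem (conj_mem_of_mem_normalizer (h1 hr) hz) (inv_mem hz)⟩
  rwa [h2, mem_bot, mul_inv_eq_one, mul_inv_eq_iff_eq_mul] at this

namespace Tw

variable {B K K' U U' : Subgroup G} {x : G} (h : Tw B K K' U U' x)
include h

theorem tm : TM B U U' := h.s.tm

theorem nK {n : G} (hn : n ∈ 𝐍[B]) (hU : n ∈ 𝐍[U]) : n ∈ 𝐍[K] ∧ n ∈ 𝐍[K'] :=
  ⟨h.s.nU hU, h.s'.nU (h.tm.e2_nU hn hU)⟩

theorem swap {n : G} (hn : n ∈ 𝐍[B]) (hU : n ∉ 𝐍[U]) : cj(n, K) = K' ∧ cj(n, K') = K := by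
  constructor
  · rw [← inv_mul_cancel_right n x, cj_mul, h.e]
    exact cj_of_mem_normalizer (h.nK (mul_mem hn (inv_mem h.xB))
      (h.tm.e2_mul hn (inv_mem h.xB) hU fun k => h.xU (inv_mem_iff.1 k))).2
  · rw [← h.e, ← cj_mul]
    exact cj_of_mem_normalizer (h.nK (mul_mem hn h.xB) (h.tm.e2_mul hn h.xB hU h.xU)).1

theorem symm : Tw B K' K U' U x :=
  ⟨h.lc, h.s', h.s, fun d a b c => h.bot d a c b, h.xB, fun k => h.xU (h.tm.symm.e2_nU h.xB k),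
    (h.swap h.xB h.xU).2⟩

theorem cjD {n : G} (hn : n ∈ 𝐍[B]) (hU : n ∉ 𝐍[U]) : cj(n, B ⊓ 𝐂[K]) = B ⊓ 𝐂[K'] := by
  rw [cj_inf, cj_of_mem_normalizer hn, ← centralizer_cj, (h.swap hn hU).1]

theorem nD : 𝐍[B] ⊓ 𝐍[U] ≤ 𝐍[B ⊓ 𝐂[K]] :=
  le_normalizer_inf inf_le_left (le_normalizer_centralizer (inf_le_right.trans h.s.nU))

theorem nD' : 𝐍[B] ⊓ 𝐍[U] ≤ 𝐍[B ⊓ 𝐂[K']] := fun _ hn =>
  h.symm.nD ⟨hn.1, h.tm.e2_nU hn.1 hn.2⟩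

theorem D_ne (k : B ⊓ 𝐂[K] ≠ ⊥) : B ⊓ 𝐂[K'] ≠ ⊥ := by
  rwa [← h.cjD h.xB h.xU, Ne, cj_eq_bot]

theorem nB1 : 𝐍[B] ≤ 𝐍[(K ⊓ 𝐍[B]) ⊔ (K' ⊓ 𝐍[B])] := fun n hn => by
  by_cases k : n ∈ 𝐍[U]
  · rw [← cj_eq_iff, cj_sup, cj_inf, cj_inf, cj_of_mem hn, cj_of_mem_normalizer (h.nK hn k).1,
      cj_of_mem_normalizer (h.nK hn k).2]
  · rw [← cj_eq_iff, cj_sup, cj_inf, cj_inf, cj_of_mem hn, (h.swap hn k).1, (h.swap hn k).2, sup_comm]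

theorem B1_le : (K ⊓ 𝐍[B]) ⊔ (K' ⊓ 𝐍[B]) ≤ 𝐍[B] ⊓ 𝐍[U] :=
  sup_le (fun _ hk => ⟨hk.2, h.s.kU hk.1⟩) fun _ hk =>
    ⟨hk.2, h.tm.symm.e2_nU hk.2 (h.s'.kU hk.1)⟩

theorem cent_Y {p : ℕ} [Fact p.Prime] (hp : p ≠ 2) {Y : Subgroup G}
    (hY : IsSyl p Y ((K ⊓ 𝐍[B]) ⊔ (K' ⊓ 𝐍[B]))) (hd : p ∣ Nat.card ↥(K ⊓ 𝐍[B])) {b : G}
    (hb : b ∈ B) (hn : b ∈ 𝐍[Y]) : b ∈ 𝐂[K] := by
  have bot : ∀ y ∈ Y, y ∈ B → y = 1 := fun y hy k => mem_bot.1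
    ((IsPGroup.disjoint_of_ne p 2 hp _ _ hY.pgrp h.s.syl.pgrp).le_bot ⟨hy, k⟩)
  have h1 := hY.inf_of_le le_sup_left (h.B1_le.trans (le_normalizer_inf
    (inf_le_right.trans h.s.nU) (inf_le_left.trans le_normalizer)))
  obtain ⟨⟨y, hy⟩, y1⟩ := ne_bot_iff_exists_ne_one.1 (fun e => h1.eq_bot_iff.1 e hd)
  refine h.s.fpf y hy.2.1 hy.2.2 (fun k => y1 (Subtype.ext (bot y hy.1 k))) b hb ?_
  have := bot (b * y * b⁻¹ * y⁻¹) (mul_mem (conj_mem_of_mem_normalizer hn hy.1) (inv_mem hy.1)) (by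
    rw [mul_assoc b, mul_assoc b]
    exact mul_mem hb (conj_mem_of_mem_normalizer hy.2.2 (inv_mem hb)))
  rwa [mul_inv_eq_one, mul_inv_eq_iff_eq_mul, eq_comm] at this

theorem exists_Y : ∃ Y : Subgroup G, B ⊓ 𝐍[Y] = ⊥ ∧ (∃ n ∈ K ⊓ 𝐍[Y], n ≠ 1 ∧ n * n = 1) ∧
    (∃ n ∈ K' ⊓ 𝐍[Y], n ≠ 1 ∧ n * n = 1) ∧ ∃ f ∈ 𝐍[B] ⊓ 𝐍[Y], f ≠ 1 ∧ f * f = 1 := by
  obtain ⟨p, hp, hp2, hd⟩ : ∃ p, p.Prime ∧ p ≠ 2 ∧ p ∣ Nat.card ↥(K ⊓ 𝐍[B]) := by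
    by_contra hc
    refine h.s.car (h.s.syl.le_of_normalizes ?_ inf_le_left inf_le_right)
    refine IsPGroup.of_card (n := (Nat.card ↥(K ⊓ 𝐍[B])).primeFactorsList.length) ?_
    exact Nat.eq_prime_pow_of_unique_prime_dvd Nat.card_pos.ne' fun {d} a b =>
      by_contra fun k => hc ⟨d, a, k, b⟩
  have : Fact p.Prime := ⟨hp⟩
  obtain ⟨Y, hY⟩ := exists_isSyl p ((K ⊓ 𝐍[B]) ⊔ (K' ⊓ 𝐍[B]))
  have hd' : p ∣ Nat.card ↥(K' ⊓ 𝐍[B]) := by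
    rwa [← h.e, ← cj_of_mem h.xB, ← cj_inf, card_cj]
  have hb : B ⊓ 𝐍[Y] = ⊥ := eq_bot_iff.2 fun b hb => mem_bot.2 (h.bot b hb.1
    (h.cent_Y hp2 hY hd hb.1 hb.2) (h.symm.cent_Y hp2 (by rwa [sup_comm]) hd' hb.1 hb.2))
  have h1 := hY.le.trans h.B1_le
  refine ⟨Y, hb, h.s.exists_inv hp2 (hY.mono le_sup_left (sup_le hY.le le_sup_left))
    (h1.trans inf_le_left) (fun y hy => (h.nK (h1 hy).1 (h1 hy).2).1) hb,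
    h.s'.exists_inv hp2 (hY.mono le_sup_left (sup_le hY.le le_sup_right))
    (h1.trans inf_le_left) (fun y hy => (h.nK (h1 hy).1 (h1 hy).2).2) hb, ?_⟩
  obtain ⟨n, hn, g, hg, e⟩ := hY.frattini (h.nB1 h.xB)
  have hn' := mem_inf.1 (h.B1_le hn)
  have g1 : g ∈ 𝐍[B] := (mul_mem_cancel_left hn'.1).1 (e ▸ h.xB)
  have g2 : g ∉ 𝐍[U] := fun k => h.xU (e ▸ mul_mem hn'.2 k)
  obtain ⟨m, hm, hj⟩ := ex_odd g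
  obtain ⟨f, hf, f1, f2⟩ := ex_inv (isPGroup_zpowers hj) fun k =>
    odd_pow_not_mem g2 (h.tm.e2_mul g1 g1 g2 g2) hm (zpowers_eq_bot.1 k ▸ one_mem _)
  exact ⟨f, zpowers_le.2 (pow_mem (mem_inf.2 ⟨g1, hg⟩) m) hf, f1, f2⟩

variable (c : S2 B U U')
include c

theorem exists_z {f : G} (hf : f ∈ 𝐍[B]) (hU : f ∈ 𝐍[U]) (f2 : f * f = 1) :
    ∃ z ∈ U ⊓ U' ⊓ 𝐂[zpowers f], z ∉ 𝐂[K] ∧ z ∉ 𝐂[K'] := by
  have key : ∀ {K K' U U' : Subgroup G}, Tw B K K' U U' x → f ∈ 𝐍[U] →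
      1 < Nat.card ↥(U ⊓ U' ⊓ 𝐂[zpowers f]) → ¬ U ⊓ U' ⊓ 𝐂[zpowers f] ≤ 𝐂[K] :=
    fun {K K' U U'} h hU h1 k => by
      obtain ⟨z, hz, z1⟩ := e2_ex h1
      have h2 := inf_centralizer_ne_bot (CL2.pgrp_zpowers f2) (h.s.syl.pgrp.to_le inf_le_left)
        (zpowers_le.2 (h.nD' ⟨hf, hU⟩))
        (h.D_ne fun e => z1 (mem_bot.1 (e ▸ mem_inf.2 ⟨h.tm.leA hz.1.1, k hz⟩)))
      obtain ⟨⟨d, hd⟩, d1⟩ := ne_bot_iff_exists_ne_one.1 h2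
      have := h.s'.D_le hd.1
      exact d1 (Subtype.ext (h.bot d hd.1.1 (k ⟨⟨this.2, this.1⟩, hd.2⟩) hd.1.2))
  have h3 := c.three hf f2
  by_contra hc
  rcases CL2.le_or_le (E := U ⊓ U' ⊓ 𝐂[zpowers f]) (A := 𝐂[K]) (B := 𝐂[K']) (fun z hz =>
    by_contra fun k => hc ⟨z, hz, (not_or.1 k).1, (not_or.1 k).2⟩) with k | k
  · exact key h hU (by omega) k
  · rw [inf_comm U] at k h3
    exact key h.symm (h.tm.e2_nU hf hU) (by omega) k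

theorem case_a {f n n' : G} (hf : f ∈ 𝐍[B]) (hU : f ∈ 𝐍[U]) (f1 : f ≠ 1) (f2 : f * f = 1)
    (a1 : n ∈ K) (a2 : n ∉ 𝐍[B]) (a3 : n ∈ 𝐂[zpowers f])
    (b1 : n' ∈ K') (b2 : n' ∉ 𝐍[B]) (b3 : n' ∈ 𝐂[zpowers f]) : False := by
  obtain ⟨z, hz, z1, z2⟩ := h.exists_z c hf hU f2
  have hz' : z ∈ U' ⊓ U := ⟨hz.1.2, hz.1.1⟩
  have zz := h.tm.sqA z hz.1.1
  have zB := h.tm.leA hz.1.1
  have z0 : z ≠ 1 := fun e => z1 (e ▸ one_mem _)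
  have cz : 𝐂[zpowers z] ≤ 𝐍[B] := by
    rcases c.gs z hz.1 z0 with k | k | k
    exacts [fun g hg => h.s.lz hz.1 z1 (k hg) hg, fun g hg => h.s'.lz hz' z2 (k hg) hg, k]
  have hR : pCoreOf 2 𝐂[zpowers f] ≤ 𝐍[B] := core_le h.s.syl.pgrp fun u hu u1 u2 => by
    have w1 : u⁻¹ * z * u⁻¹⁻¹ ∈ B := c.closed' zB zz (u2 (conj_mem_cj _ ⟨zB, hz.2⟩))
    have key : ∀ {K V V' : Subgroup G} {n : G}, Sd B K V V' → z ∈ V ⊓ V' → z ∉ 𝐂[K] → n ∈ K →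
        n ∉ 𝐍[B] → n ∈ 𝐂[zpowers f] → u⁻¹ * z * u⁻¹⁻¹ ∈ V := fun {K V V' n} s k1 k2 k3 k4 k5 => by
      have m1 : n * z * n⁻¹ ∈ V := conj_mem_of_mem_normalizer (s.kU k3) k1.1
      have m2 := c.closed' (s.tm.leA m1) (conj_sq zz) (u1 (conj_mem_cj _ (mem_inf.2 ⟨s.tm.leA m1,
        mul_mem (mul_mem k5 hz.2) (inv_mem k5)⟩)))
      refine s.tm.mem_of_comm w1 m1 (fun k => k2 (s.cent_of k1 k3 k4 ⟨m1, k⟩)) ?_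
      have := s.tm.z_comm k1.1 k1.2 m2
      rw [show u⁻¹ * z * u⁻¹⁻¹ * (n * z * n⁻¹) = u⁻¹ * (z * (u * (n * z * n⁻¹) * u⁻¹)) * u by group,
        ← this]
      group
    have w2 := h.s.B_le_c ⟨key h.s hz.1 z1 a1 a2 a3, key h.s' hz' z2 b1 b2 b3⟩
    rw [centralizer_zpowers, centralizer_singleton_conj, ← centralizer_zpowers, le_cj_iff,
      inv_inv] at w2
    exact c.mem_of_cj (w2.trans cz)
  refine z0 (mem_core (h.lc.cent' f2 f1) hR (by_contra fun k => ?_) zB hz.2)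
  have cl : ∀ r ∈ pCoreOf 2 𝐂[zpowers f] ⊓ B, r * r = 1 → ∀ m ∈ 𝐂[zpowers f],
      m * r * m⁻¹ ∈ pCoreOf 2 𝐂[zpowers f] ⊓ B := fun r hr r2 m hm => by
    have := conj_mem_of_mem_normalizer (le_normalizer_pCoreOf 2 _ hm) hr.1
    exact ⟨this, c.closed' hr.2 r2 (hR this)⟩
  have inZ : ∀ r ∈ pCoreOf 2 𝐂[zpowers f] ⊓ B, r * r = 1 → r ∈ U ⊓ U' := fun r hr r2 =>
    ⟨h.s.tiU hr.2 a1 a2 (cl r hr r2 n a3).2, h.s'.tiU hr.2 b1 b2 (cl r hr r2 n' b3).2⟩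
  obtain ⟨r, hr, r1, r2⟩ := ex_inv (h.s.syl.pgrp.to_le inf_le_right) k
  have e1 := inZ r hr r2
  have e2 := inZ _ (cl r hr r2 n' b3) (conj_sq r2)
  exact r1 (h.bot r hr.2 (h.s.cent_of e1 a1 a2 (inZ _ (cl r hr r2 n a3) (conj_sq r2)))
    (h.s'.cent_of ⟨e1.2, e1.1⟩ b1 b2 ⟨e2.2, e2.1⟩))

theorem l1 {f z u : G} (hf : f ∈ 𝐍[B]) (hU : f ∉ 𝐍[U]) (hz : z ∈ U ⊓ U') (z1 : z ≠ 1)
    (zf : z ∈ 𝐂[zpowers f]) (hu : u ∈ 𝐂[zpowers f]) (e : u * z * u⁻¹ ∈ 𝐍[B]) : u ∈ 𝐍[B] := by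
  have zz := h.tm.sqA z hz.1
  have m := e2_mc.1 (mul_mem (mul_mem hu zf) (inv_mem hu))
  have k := c.key1 (h.tm.e2_fix hf hU (c.closed' (h.tm.leA hz.1) zz e) (conj_sq zz) m)
    (conj_ne z1) hf hU m
  rw [centralizer_zpowers, centralizer_singleton_conj, ← centralizer_zpowers] at k
  exact c.mem_of_cj ((cj_mono u (h.s.B_le_c hz)).trans k)

theorem case_b {f v : G} (hf : f ∈ 𝐍[B]) (hU : f ∉ 𝐍[U]) (f2 : f * f = 1)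
    (hv : v ∈ 𝐂[zpowers f]) : v ∈ 𝐍[B] := by
  have f1 : f ≠ 1 := fun e => hU (e ▸ one_mem _)
  obtain ⟨z, hz, z1⟩ := e2_ex (A := U ⊓ U' ⊓ 𝐂[zpowers f]) (by have := c.three hf f2; omega)
  have hR : pCoreOf 2 𝐂[zpowers f] ≤ 𝐍[B] := core_le h.s.syl.pgrp fun u hu u1 _ =>
    h.l1 c hf hU hz.1 z1 hz.2 hu (u1 (conj_mem_cj _ ⟨h.tm.leA hz.1.1, hz.2⟩))
  by_cases k : pCoreOf 2 𝐂[zpowers f] ⊓ (U ⊓ U') = ⊥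
  · exact absurd (mem_core (h.lc.cent' f2 f1) (hR.trans h.tm.e2_nZ) k hz.1 hz.2) z1
  obtain ⟨⟨r, hr⟩, r1⟩ := ne_bot_iff_exists_ne_one.1 k
  exact h.l1 c hf hU hr.2 (fun e => r1 (Subtype.ext e)) (pCoreOf_le 2 _ hr.1) hv
    (hR (conj_mem_of_mem_normalizer (le_normalizer_pCoreOf 2 _ hv) hr.1))

theorem false : False := by
  obtain ⟨Y, hb, ⟨n, n0, n1, n2⟩, ⟨n', n0', n1', n2'⟩, f, hf, f1, f2⟩ := h.exists_Y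
  have out : ∀ {K V V' : Subgroup G}, Sd B K V V' → ∀ m ∈ K ⊓ 𝐍[Y], m ≠ 1 → m * m = 1 →
      m ∉ 𝐍[B] := fun s m hm m1 m2 k =>
    m1 (mem_bot.1 (hb ▸ mem_inf.2 ⟨s.mem_B hm.1 k ⟨1, by rw [pow_one, sq, m2]⟩, hm.2⟩))
  by_cases ha : ∃ f ∈ 𝐍[B] ⊓ 𝐍[Y], f ∈ 𝐍[U] ∧ f ≠ 1 ∧ f * f = 1
  · obtain ⟨f, hf, hU, f1, f2⟩ := ha
    have k := h.nK hf.1 hU
    obtain ⟨a, a0, a1, a2, a3⟩ := ex_inv_comm f2 (le_normalizer_inf (L := 𝐍[K] ⊓ 𝐍[Y]) inf_le_left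
      (inf_le_right.trans le_normalizer) ⟨k.1, hf.2⟩) n0 n1 n2
    obtain ⟨b, b0, b1, b2, b3⟩ := ex_inv_comm f2 (le_normalizer_inf (L := 𝐍[K'] ⊓ 𝐍[Y]) inf_le_left
      (inf_le_right.trans le_normalizer) ⟨k.2, hf.2⟩) n0' n1' n2'
    exact h.case_a c hf.1 hU f1 f2 a0.1 (out h.s a a0 a1 a2) a3 b0.1 (out h.s' b b0 b1 b2) b3
  have hU : f ∉ 𝐍[U] := fun k => ha ⟨f, hf, k, f1, f2⟩
  obtain ⟨P, hP, hfP⟩ := exists_isSyl_ge (L := 𝐍[Y]) (CL2.pgrp_zpowers f2) (zpowers_le.2 hf.2)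
  have bot : P ⊓ (𝐍[B] ⊓ 𝐍[U]) = ⊥ := by_contra fun k => by
    obtain ⟨g, hg, g1, g2⟩ := ex_inv (hP.pgrp.to_le inf_le_left) k
    exact ha ⟨g, ⟨hg.2.1, hP.le hg.1⟩, hg.2.2, g1, g2⟩
  have hc : Nat.card (zpowers f) ≤ 2 := by
    rw [Nat.card_zpowers]
    exact orderOf_le_of_pow_eq_one two_pos (by rw [sq, f2])
  have e : zpowers f = P := eq_of_inf_normalizer_le hP.pgrp hfP fun v hv => by
    have v1 := h.case_b c hf.1 hU f2 (csa_two hc hv.2)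
    by_cases k : v ∈ 𝐍[U]
    · rw [show v = 1 from mem_bot.1 (bot ▸ mem_inf.2 ⟨hv.1, mem_inf.2 ⟨v1, k⟩⟩)]; exact one_mem _
    have := mem_bot.1 (bot ▸ mem_inf.2 ⟨mul_mem (mem_inf.1 hv).1 (hfP (mem_zpowers f)),
      mem_inf.2 ⟨mul_mem v1 hf.1, h.tm.e2_mul v1 hf.1 k hU⟩⟩)
    rw [eq_inv_of_mul_eq_one_left this]
    exact inv_mem (mem_zpowers f)
  obtain ⟨g, -, k⟩ := hP.exists_cj_le (CL2.pgrp_zpowers n2) (zpowers_le.2 n0.2)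
  obtain ⟨m, -, k'⟩ := h.s.syl.exists_le_cj (CL2.pgrp_zpowers n2) (zpowers_le.2 n0.1)
  have e' : cj(g, zpowers n) = zpowers f := by
    refine eq_of_le_of_card_ge (e ▸ k) (hc.trans ?_)
    rw [card_cj, Nat.card_zpowers, orderOf_eq_prime (by rw [sq, n2]) n1]
  refine hU (h.tm.le_nA (c.closed (g := g * m) hf.1 ?_ f2))
  rw [cj_mul]
  exact cj_mono g k' (e' ▸ mem_zpowers f)

end Tw

end Cfsg.Agent.PLocal.Bk.APU
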