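import Cfsg.Agent.APU.Gen
import Cfsg.Agent.PLocal.CsE2a

/-!
Two conjugate `A₅`-blocks: a contradiction.
-/

set_option autoImplicit false
set_option linter.unusedSectionVars false

namespace Cfsg.Agent.PLocal.Bk.APU

open Subgroup Cfsg Cfsg.Agent.PLocal.Amb Cfsg.Agent.PLocal.TV Equiv
open Cfsg.Agent.PLocal.CP (IsCharP)
open scoped commutatorElement Cfsg.Agent.PLocal.CP

variable {G : Type*} [Group G] [Finite G]

/-- the three cycle -/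
def gam : Perm (Fin 5) := swap 2 3 * swap 3 4

/-- the vector of weight two -/
def v01 : Fin 5 → ZMod 2 := ![1, 1, 0, 0, 0]

theorem eq_one_of_three {H : Type*} [Group H] {τ : H} (h3 : τ ^ 3 = 1) {k : ℕ} (h2 : τ ^ 2 ^ k = 1) :
    τ = 1 := by
  rw [← orderOf_eq_one_iff]
  exact Nat.eq_one_of_dvd_coprimes (Nat.Coprime.pow_right k (by decide : Nat.Coprime 3 2))
    (orderOf_dvd_of_pow_eq_one h3) (orderOf_dvd_of_pow_eq_one h2)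

theorem perm_cases {σ : Perm (Fin 5)} (h : ∀ i, v01 (σ i) = v01 i) (h1 : ∃ k, σ ^ 2 ^ k = 1)
    (h2 : ∃ k, ⁅gam, σ⁆ ^ 2 ^ k = 1) : σ = 1 ∨ σ = swap 0 1 := by
  obtain ⟨k, hk⟩ := h1
  obtain ⟨j, hj⟩ := h2
  rcases (by decide +kernel : ∀ σ : Perm (Fin 5), (∀ i, v01 (σ i) = v01 i) →
    (σ = 1 ∨ σ = swap 0 1) ∨ ((σ ^ 2) ^ 3 = 1 ∧ σ ^ 2 ≠ 1) ∨
      ((gam * σ * gam⁻¹ * σ⁻¹) ^ 3 = 1 ∧ gam * σ * gam⁻¹ * σ⁻¹ ≠ 1)) σ h with e | e | e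
  · exact e
  · exact absurd (eq_one_of_three e.1 (k := k) (by rw [← pow_mul, mul_comm, pow_mul, hk, one_pow])) e.2
  · exact absurd (eq_one_of_three e.1 hj) e.2

namespace H0

variable {K T : Subgroup G} (h : H0 K T) {ψ : G → Fin 5 → ZMod 2} {φ : G → Perm (Fin 5)}
  (l : PC 𝐁[2, T] K 𝐖[2, K] ψ φ pi0 4)
include h l

theorem ex_c : ∃ c ∈ K, φ c = gam ∧ (orderOf c).Coprime 2 := by
  obtain ⟨c, hc, e⟩ := l.liftK gam (by decide)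
  have n := le_normalizer hc
  have h3 : c ^ 3 ∈ 𝐖[2, K] := (l.kerK _ (pow_mem hc 3)).1 (by rw [l.pow n, e]; decide)
  refine ⟨c ^ 4, pow_mem hc 4, by rw [l.pow n, e]; decide, Nat.Coprime.coprime_dvd_left
    (orderOf_dvd_of_pow_eq_one (n := 3) ?_) (by decide)⟩
  rw [← pow_mul, show 4 * 3 = 3 * 2 * 2 from rfl, pow_mul, pow_mul, m_W_pow K h3, one_pow]

theorem cases {R : Subgroup G} (hR : IsPGroup 2 R) {c r : G} (hc : c ∈ K) (e : φ c = gam)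
    (hn : c ∈ 𝐍[R]) (hr : r ∈ R) (hK : r ∈ 𝐍[K]) (hv : ∀ i, v01 (φ r i) = v01 i) :
    φ r = 1 ∨ φ r = swap 0 1 := by
  have key : ∀ s ∈ R, s ∈ 𝐍[K] → ∃ k, φ s ^ 2 ^ k = 1 := fun s hs n =>
    (isPGroup_iff.1 hR s hs).imp fun k j => by rw [← l.pow n, j, l.one]
  refine perm_cases hv (key r hr hK) ?_
  rw [← e, ← l.comm (le_normalizer hc) hK]
  exact key _ (BM.comm_mem_right hn hr) (le_normalizer (BM.comm_mem_left hc hK))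

theorem comm_t {t w a : G} (ht : t ∈ 𝐍[K]) (e : φ t = swap 0 1) (hw : w ∈ 𝐖[2, K])
    (ha : a ∈ 𝐖[2, K]) (ea : ψ a = v01) : ⁅t, w⁆ = 1 ∨ ⁅t, w⁆ = a := by
  have m := BM.comm_mem_right (h.nW ht) hw
  have k : ψ ⁅t, w⁆ = fun i => ψ w (swap 0 1 i) + ψ w i :=
    funext fun i => by rw [l.ψ_comm ht hw, e, swap_inv]
  refine ((by decide : ∀ u : Fin 5 → ZMod 2, (fun i => u (swap 0 1 i) + u i) = 0 ∨
    (fun i => u (swap 0 1 i) + u i) = v01) (ψ w)).imp (fun j => l.inj _ m (k.trans j))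
    fun j => l.ψ_inj m ha (by rw [k, j, ea])

variable {a : G} (ha : a ∈ 𝐖[2, K]) (ea : ψ a = v01)
include ha ea

theorem mem_ca {g : G} (hg : g ∈ 𝐍[K]) : g ∈ 𝐂[zpowers a] ↔ ∀ i, v01 (φ g i) = v01 i := by
  rw [e2_mc, eq_comm, l.comm_iff hg ha, ea]

theorem B_le_ca : 𝐁[2, T] ≤ 𝐂[zpowers a] := fun b hb =>
  (h.mem_ca l ha ea (h.blk.B_le_norm hb)).2 fun i => by
    rcases l.memB b hb i with k | k <;> rw [k]
    exact (by decide : ∀ i, v01 (pi0 i) = v01 i) i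

theorem side (hQ : pCoreOf 2 (K ⊔ T) ≤ 𝐁[2, T]) {r : G} (hr : r ∈ pCoreOf 2 𝐂[zpowers a])
    (hK : r ∈ 𝐍[K]) : (φ r = 1 ∨ φ r = swap 0 1) ∧ r ∈ 𝐁[2, T] ∧
      ∀ w ∈ 𝐖[2, K], ⁅r, w⁆ = 1 ∨ ⁅r, w⁆ = a := by
  obtain ⟨c, hc, e, -⟩ := h.ex_c l
  have n := le_normalizer_pCoreOf 2 𝐂[zpowers a]
  have k := h.cases l (isPGroup_pCoreOf 2 _) hc e (n ((h.mem_ca l ha ea (le_normalizer hc)).2
    (by rw [e]; decide))) hr hK ((h.mem_ca l ha ea hK).1 (pCoreOf_le 2 _ hr))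
  have hS := isPGroup_sup h.blk.bau.pgrp ((isPGroup_pCoreOf 2 𝐂[zpowers a]).to_le
    (inf_le_left (b := 𝐍[K]))) (le_normalizer_inf ((h.B_le_ca l ha ea).trans n)
    (h.blk.B_le_norm.trans le_normalizer))
  have hS' := h.eqQ (hS.to_le (inf_le_left (b := 𝐂[𝐖[2, K]])))
    (le_inf (hQ.trans le_sup_left) h.Q_le_c)
    (inf_le_left.trans (sup_le h.blk.B_le_norm inf_le_right)) inf_le_right
  have fin : ∀ b ∈ 𝐁[2, T], φ b = φ r → r ∈ 𝐁[2, T] := fun b hb j =>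
    (mul_mem_cancel_left (inv_mem hb)).1 (hQ (hS' ▸ mem_inf.2 ⟨mul_mem (mem_sup_left (inv_mem hb))
      (mem_sup_right (mem_inf.2 ⟨hr, hK⟩)), l.of_eq (h.blk.B_le_norm hb) hK j⟩))
  refine ⟨k, ?_, fun w hw => ?_⟩
  · obtain ⟨b, hb, j⟩ := l.liftB (φ r) (by rcases k with k | k <;> rw [k] <;> decide)
    exact fin b hb j
  · rcases k with k | k
    · exact Or.inl (BM.comm_eq_one_of_cent ((l.ker r hK).1 k) hw)
    · exact h.comm_t l hK k hw ha ea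

omit ha ea in
theorem cent_P (hs : ∀ q ∈ pCoreOf 2 (K ⊔ T), q * q = 1) {c : G} (hc : c ∈ K) (e : φ c = gam) :
    𝐂[𝐖[2, K] ⊓ 𝐂[zpowers c]] ≤ 𝐍[K] := by
  have n := le_normalizer hc
  have ex : ∀ v : Fin 5 → ZMod 2, ∑ i, v i = 0 → (∀ i, v (gam i) = v i) →
      ∃ f ∈ 𝐖[2, K] ⊓ 𝐂[zpowers c], ψ f = v := fun v v1 v2 => by
    obtain ⟨f, hf, j⟩ := l.surj v v1
    exact ⟨f, ⟨hf, e2_mc.2 ((l.comm_iff n hf).2 (by rw [e, j]; exact v2))⟩, j⟩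
  obtain ⟨f, hf, ef⟩ := ex ![0, 1, 1, 1, 1] (by decide) (by decide)
  obtain ⟨a, ha, ea⟩ := ex v01 (by decide) (by decide)
  have ch := h.lc.cent ((isPGroup_pCoreOf 2 _).to_le (inf_le_left.trans h.W_le))
    (R := 𝐖[2, K] ⊓ 𝐂[zpowers c]) fun k => by
      rw [show a = 1 from mem_bot.1 (k ▸ ha), l.ψ_one] at ea
      exact absurd ea (by decide)
  have q1 := h.Q_le_c.trans (centralizer_anti (inf_le_left (b := 𝐂[zpowers c])))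
  have c1 : c ∈ 𝐂[𝐖[2, K] ⊓ 𝐂[zpowers c]] := fun w hw => (e2_mc.1 hw.2).symm
  have fix : ∀ g ∈ 𝐂[𝐖[2, K] ⊓ 𝐂[zpowers c]], g ∈ 𝐍[K] → ∀ w ∈ 𝐖[2, K] ⊓ 𝐂[zpowers c],
      ∀ i, ψ w (φ g i) = ψ w i := fun g hg k w hw => (l.comm_iff k hw.1).1 (hg w hw).symm
  generalize 𝐂[𝐖[2, K] ⊓ 𝐂[zpowers c]] = C at ch q1 c1 fix
  have o := le_normalizer_pCoreOf 2 C
  have o1 : pCoreOf 2 C ⊓ 𝐍[K] ≤ 𝐂[𝐖[2, K]] := fun g hg => by
    have g1 := pCoreOf_le 2 C hg.1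
    refine (l.ker g hg.2).1 ((h.cases l (isPGroup_pCoreOf 2 C) hc e (o c1) hg.1 hg.2
      (ea ▸ fix g g1 hg.2 a ha)).resolve_right fun k => ?_)
    have := fix g g1 hg.2 f hf 0
    rw [k, ef] at this
    exact absurd this (by decide)
  have qK := h.Q_le.trans h.nK
  have hP := isPGroup_sup (isPGroup_pCoreOf 2 (K ⊔ T)) (isPGroup_pCoreOf 2 C) (q1.trans o)
  have o2 := h.eqQ (hP.to_le (sup_le_sup_left (inf_le_left (b := 𝐍[K])) _)) le_sup_left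
    (sup_le qK inf_le_right) (sup_le h.Q_le_c o1)
  have o3 : pCoreOf 2 C ≤ pCoreOf 2 (K ⊔ T) := le_sup_right.trans
    (eq_of_inf_normalizer_le hP le_sup_left ((inf_le_inf_left _ h.normQ).trans
      ((sup_inf_of_le_normalizer qK (q1.trans o)).trans o2).le)).ge
  have o4 : pCoreOf 2 C = pCoreOf 2 (K ⊔ T) := le_antisymm o3 fun q hq =>
    ch ⟨q1 hq, fun r hr => CL2.comm_of_sq hs (o3 hr) hq⟩
  exact (o4 ▸ o).trans h.normQ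

end H0

theorem P2.five {K K' T : Subgroup G} {x : G} (p : P2 K K' T x) (hm : SymF 2 2 K) : False := by
  have hm' : SymF 2 2 K' := p.e ▸ (symF_map_iff (conj_inj x)).2 hm
  have std : ∀ {K : Subgroup G}, H0 K T → SymF 2 2 K →
      ∃ ψ φ, PC 𝐁[2, T] K 𝐖[2, K] ψ φ pi0 4 := fun h hm => by
    obtain ⟨ψ, φ, π, c, l⟩ := exists_pc h.blk hm
    obtain ⟨y, hy⟩ := exists_ne c
    obtain ⟨ψ, φ, l, -⟩ := PC.std l hy
    exact ⟨ψ, φ, l⟩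
  obtain ⟨ψ, φ, l⟩ := std p.h hm
  obtain ⟨ψ', φ', l'⟩ := std p.h' hm'
  obtain ⟨⟨t, ht, et⟩, s, hs, es⟩ := p.h.two_swaps p.h'.blk.W_le_B (m_W_le_cent _) p.nc
    (p.off ⟨2, hm⟩) (p.h'.nK.trans p.h'.nW) l
  obtain ⟨⟨t', ht', et'⟩, s', hs', es'⟩ := p.h'.two_swaps p.h.blk.W_le_B (m_W_le_cent _) p.symm.nc
    (p.symm.off ⟨2, hm'⟩) (p.h.nK.trans p.h.nW) l'
  have n : 𝐖[2, K'] ≤ 𝐍[K] := p.h'.blk.W_le_B.trans p.h.blk.B_le_norm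
  have n' : 𝐖[2, K] ≤ 𝐍[K'] := p.h.blk.W_le_B.trans p.h'.blk.B_le_norm
  obtain ⟨w, hw, ew⟩ := l.surj ![1, 0, 0, 0, 1] (by decide)
  obtain ⟨a, ha⟩ : ∃ a, a = ⁅t, w⁆ := ⟨_, rfl⟩
  have a1 : a ∈ 𝐖[2, K] := ha ▸ BM.comm_mem_right (p.h.nW (n ht)) hw
  have a2 : a ∈ 𝐖[2, K'] := ha ▸ BM.comm_mem_left ht (p.h'.nW (n' hw))
  have ea : ψ a = v01 := funext fun i => by
    rw [ha, l.ψ_comm (n ht) hw, et, ew]
    revert i
    decide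
  have a0 : a ≠ 1 := fun e => by
    rw [e, l.ψ_one] at ea
    exact absurd ea (by decide)
  obtain ⟨ψ', φ', l', ea'⟩ : ∃ ψ' φ', PC 𝐁[2, T] K' 𝐖[2, K'] ψ' φ' pi0 4 ∧ ψ' a = v01 := by
    have key : ∀ u ∈ 𝐖[2, K], (∀ i, ψ' t ((φ' u)⁻¹ i) + ψ' t i = 0) ∨
        ∀ i, ψ' a i = ψ' t ((φ' u)⁻¹ i) + ψ' t i := fun u hu => by
      refine (p.h.comm_t l (n ht) et hu a1 ea).imp (fun k i => ?_) fun k i => ?_
      · rw [← l'.ψ_comm (n' hu) ht, ← commutatorElement_inv, k, inv_one, l'.ψ_one]; rfl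
      · rw [← l'.ψ_comm (n' hu) ht, ← commutatorElement_inv, k, l'.ψ_inv a2]
    have k1 := key t' ht'
    have k2 := key s' hs'
    have k3 : ¬ ∀ i, ψ' t (pi0 i) = ψ' t i := fun k => a0 (by
      rw [ha, commutatorElement_eq_one_iff_mul_comm, eq_comm, l'.comm_iff (n' hw) ht]
      intro i
      rcases l'.memB w (p.h.blk.W_le_B hw) i with j | j <;> rw [j]
      exact k i)
    rw [et'] at k1
    rw [es'] at k2
    rcases (by decide +kernel : ∀ u v : Fin 5 → ZMod 2,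
      ((∀ i, u ((swap 0 1 : Perm (Fin 5))⁻¹ i) + u i = 0) ∨
        ∀ i, v i = u ((swap 0 1 : Perm (Fin 5))⁻¹ i) + u i) →
      ((∀ i, u ((swap 2 3 : Perm (Fin 5))⁻¹ i) + u i = 0) ∨
        ∀ i, v i = u ((swap 2 3 : Perm (Fin 5))⁻¹ i) + u i) → (¬ ∀ i, u (pi0 i) = u i) →
      v = v01 ∨ ∀ i, v i = 1 ↔ i = 2 ∨ i = pi0 2) _ _ k1 k2 k3 with k | k
    · exact ⟨ψ', φ', l', k⟩
    · obtain ⟨ψ'', φ'', l'', j⟩ := l'.std (x := 2) (by decide)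
      exact ⟨ψ'', φ'', l'', j a k⟩
  have sd := fun r => p.h.side l a1 ea (p.K_eq.ge.trans inf_le_left) (r := r)
  have sd' := fun r => p.h'.side l' a2 ea' (p.symm.K_eq.ge.trans inf_le_left) (r := r)
  obtain ⟨c, hc, ec, c2⟩ := p.h.ex_c l
  have cK := le_normalizer hc
  have ca : c ∈ 𝐂[zpowers a] := (p.h.mem_ca l a1 ea cK).2 (by rw [ec]; decide)
  have ch := p.h.lc.cent' (by rw [← pow_two]; exact m_W_pow K a1) a0
  have o := le_normalizer_pCoreOf 2 𝐂[zpowers a]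
  have hR := isPGroup_pCoreOf 2 𝐂[zpowers a]
  have s1 : ∀ u ∈ pCoreOf 2 𝐂[zpowers a] ⊓ 𝐖[2, K], ψ u 2 = ψ u 3 := fun u hu => by
    have k : ψ ⁅s, u⁆ 2 = 0 := by
      rw [← commutatorElement_inv]
      rcases (sd' u hu.1 (n' hu.2)).2.2 s hs with k | k <;> rw [k]
      · rw [inv_one, l.ψ_one]; rfl
      · rw [l.ψ_inv a1, ea]; rfl
    rw [l.ψ_comm (n hs) hu.2, es] at k
    exact (CharTwo.add_eq_zero.1 k).symm
  have s2 : c ∈ 𝐂[pCoreOf 2 𝐂[zpowers a] ⊓ 𝐖[2, K]] := fun u hu => by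
    have k1 := s1 u hu
    have k2 := s1 _ ⟨conj_mem_of_mem_normalizer (o ca) hu.1,
      conj_mem_of_mem_normalizer (p.h.nW cK) hu.2⟩
    rw [l.act c cK u hu.2, l.act c cK u hu.2, ec] at k2
    rw [eq_comm, l.comm_iff cK hu.2, ec]
    exact (by decide : ∀ u : Fin 5 → ZMod 2, u 2 = u 3 → u (gam⁻¹ 2) = u (gam⁻¹ 3) →
      ∀ i, u (gam i) = u i) _ k1 k2
  have s3 : c ∈ 𝐂[pCoreOf 2 𝐂[zpowers a] ⊓ 𝐍[K]] :=
    CP.mem_centralizer_of_commutator_mem (hR.to_le inf_le_left) c2 s2 fun r hr =>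
      ⟨BM.comm_mem_right (o ca) hr.1, (l.kerK _ (BM.comm_mem_left hc hr.2)).1 (by
        rw [l.comm cK hr.2, ec]
        rcases (sd r hr.1 hr.2).1 with k | k <;> rw [k] <;> decide)⟩
  have s4 := CP.pxq_elem (P := 𝐖[2, K] ⊓ 𝐂[zpowers c])
    ((isPGroup_pCoreOf 2 _).to_le (inf_le_left.trans p.h.W_le)) hR
    (((inf_le_left.trans p.h.blk.W_le_B).trans (p.h.B_le_ca l a1 ea)).trans o) c2
    (fun w hw => (e2_mc.1 hw.2).symm) (o ca) fun u hu k =>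
      (s3 u ⟨hu, p.h.cent_P l (fun _ => p.sq) hc ec k⟩).symm
  rw [ch.eq_one ca c2 s4, l.one] at ec
  exact absurd ec (by decide)

end Cfsg.Agent.PLocal.Bk.APU
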