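import Cfsg.Agent.PLocal.CsDef

/-!
Permutation coordinates for a symmetric block.
-/

set_option autoImplicit false
set_option linter.unusedSectionVars false

namespace Cfsg.Agent.PLocal.Bk.APU

open Subgroup Cfsg Cfsg.Agent.PLocal.Amb Cfsg.Agent.PLocal.TV Equiv
open scoped commutatorElement Cfsg.Agent.PLocal.CP

variable {G : Type*} [Group G] [Finite G] {Ω : Type} [Fintype Ω] [DecidableEq Ω]

/-- Coordinates on the module `W` of a symmetric block `K`. -/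
structure PC (B K W : Subgroup G) (ψ : G → Ω → ZMod 2) (φ : G → Perm Ω) (π : Perm Ω) (c : Ω) :
    Prop where
  pair : IsPairing π c
  nW : 𝐍[K] ≤ 𝐍[W]
  add : ∀ a ∈ W, ∀ b ∈ W, ψ (a * b) = ψ a + ψ b
  inj : ∀ a ∈ W, ψ a = 0 → a = 1
  ev : ∀ a, ∑ i, ψ a i = 0
  surj : ∀ v : Ω → ZMod 2, ∑ i, v i = 0 → ∃ a ∈ W, ψ a = v
  mul : ∀ a ∈ 𝐍[K], ∀ b ∈ 𝐍[K], φ (a * b) = φ a * φ b
  act : ∀ g ∈ 𝐍[K], ∀ w ∈ W, ∀ i, ψ (g * w * g⁻¹) i = ψ w ((φ g)⁻¹ i)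
  ker : ∀ g ∈ 𝐍[K], φ g = 1 ↔ g ∈ 𝐂[W]
  liftK : ∀ σ : Perm Ω, Perm.sign σ = 1 → ∃ k ∈ K, φ k = σ
  kerK : ∀ k ∈ K, φ k = 1 ↔ k ∈ W
  memB : ∀ b ∈ B, ∀ x, φ b x = x ∨ φ b x = π x
  liftB : ∀ σ : Perm Ω, (∀ x, σ x = x ∨ σ x = π x) → ∃ b ∈ B, φ b = σ
  nB : ∀ g ∈ 𝐍[K], g ∈ 𝐍[B] → ∀ x, φ g (π x) = π (φ g x)
  nB' : ∀ g ∈ K, (∀ x, φ g (π x) = π (φ g x)) → g ∈ 𝐍[B]
  off : ∀ X ≤ B, X ≤ 𝐂[X] → ¬ X ≤ 𝐂[W] → (𝐂[X]).relIndex W ≤ (𝐂[W]).relIndex X →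
    ∃ x, x ≠ c ∧ ∃ w ∈ X, φ w = swap x (π x)

theorem exists_pc {B K : Subgroup G} (h : Blk 2 B K) {m : ℕ} (hm : SymF 2 m K) :
    ∃ (ψ : G → Fin (2 * m + 1) → ZMod 2) (φ : G → Perm (Fin (2 * m + 1))) (π : _) (c : _),
      PC B K 𝐖[2, K] ψ φ π c := by
  classical
  obtain ⟨D, π, z, l⟩ := h.symC hm
  have c : Crd 2 B K D := ⟨h, (h.Z_eq_bot_of_sym ⟨m, hm⟩).symm⟩
  have inj := pmG_injective l.three_le
  have : ∀ g, ∃ σ, g ∈ 𝐍[K] → pmG _ σ = D.act g := fun g => by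
    by_cases k : g ∈ 𝐍[K]
    · exact (l.ex c k).imp fun _ e _ => e
    · exact ⟨1, fun j => absurd j k⟩
  choose φ hφ using this
  have ker : ∀ g ∈ 𝐍[K], φ g = 1 ↔ g ∈ 𝐂[𝐖[2, K]] := fun g hg => by
    rw [← c.act_eq_one hg, ← hφ g hg, map_eq_one_iff _ inj]
  refine ⟨fun a => (D.ψ a).1, φ, π, z, l.pair, Bas.norm_le_norm_W 2 K,
    fun a ha b hb => by rw [D.ψ_mul ha hb]; rfl,
    fun a ha e => mem_bot.1 ((D.eq_zero ha).1 (Subtype.ext e)), fun a => (D.ψ a).2, fun v hv => ?_,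
    fun a ha b hb => inj ?_, fun g hg w hw i => ?_, ker, fun σ hσ => ?_, fun k hk => ?_,
    fun b hb => l.mem_pairG c hb (hφ b (h.B_le_norm hb)).symm, fun σ hσ => ?_,
    fun g hg hB => l.pair.mem_normalizer.1 (l.mem_norm c hg hB (hφ g hg).symm),
    fun g hg e => l.norm_iff c (mem_sup_left hg) (hφ g (le_normalizer hg)).symm
      (l.pair.mem_normalizer.2 e), fun X h1 h2 h3 h4 => ?_⟩
  · obtain ⟨a, ha, e⟩ := D.surj ⟨v, hv⟩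
    exact ⟨a, ha, congrArg Subtype.val e⟩
  · rw [map_mul, hφ a ha, hφ b hb, hφ _ (mul_mem ha hb), D.act_mul (c.N_le ha) (c.N_le hb)]
  · rw [← D.act_ψ (c.N_le hg) hw, ← hφ g hg, pmG_smul]
  · obtain ⟨k, hk, e⟩ := l.lift c (Perm.mem_alternatingGroup.2 hσ)
    exact ⟨k, hk, inj ((hφ k (le_normalizer hk)).trans e)⟩
  · rw [ker k (le_normalizer hk)]
    conv_rhs => rw [← l.eqQ, ← h.inf_cent_W]
    exact ⟨fun j => ⟨hk, j⟩, fun j => j.2⟩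
  · obtain ⟨b, hb, e⟩ := l.liftB c hσ
    exact ⟨b, hb, inj ((hφ b (h.B_le_norm hb)).trans e)⟩
  · obtain ⟨-, x, hx, k⟩ := l.exists_swap c (h.bau.pgrp.to_le h1) (h1.trans h.B_le_norm)
      (h1.trans le_normalizer) ((commutator_eq_bot_iff_le_centralizer.2 h2).le.trans bot_le) h3 h4
    obtain ⟨w, hw, e⟩ := (D.mem_im' (h1.trans c.B_le)).1 k
    exact ⟨x, hx, w, hw, inj ((hφ w (h.B_le_norm (h1 hw))).trans e)⟩

namespace PC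

variable {B K W : Subgroup G} {ψ : G → Ω → ZMod 2} {φ : G → Perm Ω} {π : Perm Ω} {c : Ω}
  (h : PC B K W ψ φ π c)
include h

theorem congr (ρ : Perm Ω) :
    PC B K W (fun a i => ψ a (ρ⁻¹ i)) (fun g => ρ * φ g * ρ⁻¹) (ρ * π * ρ⁻¹) (ρ c) := by
  have e : ∀ x, ρ⁻¹ (ρ x) = x := PS.inv_app ρ
  have e' : ∀ x, ρ (ρ⁻¹ x) = x := PS.app_inv ρ
  refine ⟨⟨fun x => by simp [h.pair.invol], fun x => ?_⟩, h.nW, fun a ha b hb => by
      rw [h.add a ha b hb]; rfl, fun a ha k => h.inj a ha (funext fun i => ?_),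
    fun a => by rw [Equiv.sum_comp ρ⁻¹ (ψ a), h.ev], fun v hv => ?_,
    fun a ha b hb => by rw [h.mul a ha b hb]; group, fun g hg w hw i => ?_,
    fun g hg => by rw [← h.ker g hg, conj_eq_one_iff], fun σ hσ => ?_,
    fun g hg => by rw [← h.kerK g hg, conj_eq_one_iff], fun b hb x => ?_,
    fun σ hσ => ?_, fun g hg hB x => by simp [h.nB g hg hB], fun g hg k => h.nB' g hg fun x => ?_,
    fun X h1 h2 h3 h4 => ?_⟩
  · rw [Perm.mul_apply, Perm.mul_apply, ← Perm.eq_inv_iff_eq, h.pair.fix, Perm.inv_eq_iff_eq]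
  · have := congrFun k (ρ i)
    rwa [e] at this
  · obtain ⟨a, ha, k⟩ := h.surj (fun i => v (ρ i)) (by rw [Equiv.sum_comp ρ v, hv])
    exact ⟨a, ha, funext fun i => by rw [k]; exact congrArg v (e' i)⟩
  · rw [h.act g hg w hw]
    simp
  · obtain ⟨k, hk, j⟩ := h.liftK (ρ⁻¹ * σ * ρ) (by
      rw [map_mul, map_mul, hσ, mul_one, ← map_mul, inv_mul_cancel, map_one])
    exact ⟨k, hk, by rw [j]; group⟩
  · simp only [Perm.mul_apply]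
    rcases h.memB b hb (ρ⁻¹ x) with k | k <;> rw [k]
    exacts [Or.inl (e' x), Or.inr rfl]
  · obtain ⟨b, hb, j⟩ := h.liftB (ρ⁻¹ * σ * ρ) fun x => by
      rcases hσ (ρ x) with k | k <;> simp [k]
    exact ⟨b, hb, by rw [j]; group⟩
  · simpa using k (ρ x)
  · obtain ⟨x, hx, w, hw, j⟩ := h.off X h1 h2 h3 h4
    refine ⟨ρ x, fun k => hx (ρ.injective k), w, hw, ?_⟩
    rw [j, ← swap_apply_apply]
    simp

theorem one : φ 1 = 1 := (h.ker 1 (one_mem _)).2 (one_mem _)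

theorem inv {g : G} (hg : g ∈ 𝐍[K]) : φ g⁻¹ = (φ g)⁻¹ :=
  eq_inv_of_mul_eq_one_left (by rw [← h.mul _ (inv_mem hg) _ hg, inv_mul_cancel, h.one])

theorem pow {g : G} (hg : g ∈ 𝐍[K]) (n : ℕ) : φ (g ^ n) = φ g ^ n := by
  induction n with
  | zero => rw [pow_zero, pow_zero, h.one]
  | succ n ih => rw [pow_succ, pow_succ, h.mul _ (pow_mem hg n) _ hg, ih]

theorem conj {a b : G} (ha : a ∈ 𝐍[K]) (hb : b ∈ 𝐍[K]) :
    φ (a * b * a⁻¹) = φ a * φ b * (φ a)⁻¹ := by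
  rw [h.mul _ (mul_mem ha hb) _ (inv_mem ha), h.mul _ ha _ hb, h.inv ha]

theorem comm {a b : G} (ha : a ∈ 𝐍[K]) (hb : b ∈ 𝐍[K]) : φ ⁅a, b⁆ = ⁅φ a, φ b⁆ := by
  rw [commutatorElement_def, commutatorElement_def,
    h.mul _ (mul_mem (mul_mem ha hb) (inv_mem ha)) _ (inv_mem hb), h.conj ha hb, h.inv hb]

theorem of_eq {a b : G} (ha : a ∈ 𝐍[K]) (hb : b ∈ 𝐍[K]) (e : φ a = φ b) : a⁻¹ * b ∈ 𝐂[W] :=
  (h.ker _ (mul_mem (inv_mem ha) hb)).1 (by rw [h.mul _ (inv_mem ha) _ hb, h.inv ha, e, inv_mul_cancel])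

theorem ψ_one : ψ 1 = 0 := by
  have := h.add 1 (one_mem _) 1 (one_mem _)
  rw [mul_one] at this
  exact left_eq_add.1 this

theorem ψ_inv {a : G} (ha : a ∈ W) : ψ a⁻¹ = ψ a := by
  have := h.add _ (inv_mem ha) a ha
  rw [inv_mul_cancel, h.ψ_one] at this
  rw [eq_neg_of_add_eq_zero_left this.symm]
  exact funext fun i => CharTwo.neg_eq _

theorem ψ_inj {a b : G} (ha : a ∈ W) (hb : b ∈ W) (e : ψ a = ψ b) : a = b :=
  inv_mul_eq_one.1 (h.inj _ (mul_mem (inv_mem ha) hb) (by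
    rw [h.add _ (inv_mem ha) b hb, h.ψ_inv ha, e]
    exact funext fun i => CharTwo.add_self_eq_zero _))

theorem ψ_comm {g w : G} (hg : g ∈ 𝐍[K]) (hw : w ∈ W) (i : Ω) :
    ψ ⁅g, w⁆ i = ψ w ((φ g)⁻¹ i) + ψ w i := by
  rw [commutatorElement_def, h.add _ (conj_mem_of_mem_normalizer (h.nW hg) hw) _ (inv_mem hw),
    Pi.add_apply, h.act g hg w hw, h.ψ_inv hw]

theorem comm_iff {g w : G} (hg : g ∈ 𝐍[K]) (hw : w ∈ W) :
    g * w = w * g ↔ ∀ i, ψ w (φ g i) = ψ w i := by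
  rw [← mul_inv_eq_iff_eq_mul]
  refine ⟨fun e i => ?_, fun e => h.ψ_inj (conj_mem_of_mem_normalizer (h.nW hg) hw) hw
    (funext fun i => ?_)⟩
  · have := h.act g hg w hw (φ g i)
    rwa [e, PS.inv_app] at this
  · rw [h.act g hg w hw, ← e, PS.app_inv]

end PC

/-- The standard pairing. -/
def pi0 : Perm (Fin 5) := swap 0 1 * swap 2 3

theorem exists_std {π : Perm (Fin 5)} {c : Fin 5} (h : IsPairing π c) {x : Fin 5} (hx : x ≠ c) :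
    ∃ ρ : Perm (Fin 5), ρ * π * ρ⁻¹ = pi0 ∧ ρ c = 4 ∧ ρ x = 0 ∧ ρ (π x) = 1 := by
  obtain ⟨y, y1, y2, y3⟩ := (by decide : ∀ a b c : Fin 5, ∃ y, y ≠ a ∧ y ≠ b ∧ y ≠ c) c x (π x)
  have a1 := h.ne hx
  have a2 := h.ne_c hx
  have a3 := h.ne y1
  have a4 := h.ne_c y1
  have a5 : π y ≠ x := fun e => y3 (h.eq_iff.1 e)
  have a6 : π y ≠ π x := fun e => y2 (π.injective e)
  have inj : Function.Injective ![x, π x, y, π y, c] := by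
    intro i j
    fin_cases i <;> fin_cases j <;> simp [*, Ne.symm]
  obtain ⟨τ, hτ⟩ : ∃ τ : Perm (Fin 5), ∀ i, τ i = ![x, π x, y, π y, c] i :=
    ⟨Equiv.ofBijective _ (Finite.injective_iff_bijective.1 inj), fun _ => rfl⟩
  refine ⟨τ⁻¹, Equiv.ext fun i => ?_, Perm.inv_eq_iff_eq.2 (hτ 4).symm,
    Perm.inv_eq_iff_eq.2 (hτ 0).symm, Perm.inv_eq_iff_eq.2 (hτ 1).symm⟩
  rw [inv_inv, Perm.mul_apply, Perm.mul_apply, Perm.inv_eq_iff_eq, hτ, hτ]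
  fin_cases i
  exacts [rfl, h.invol x, rfl, h.invol y, h.pc]

theorem PC.std {B K W : Subgroup G} {ψ : G → Fin 5 → ZMod 2} {φ : G → Perm (Fin 5)}
    {π : Perm (Fin 5)} {c : Fin 5} (h : PC B K W ψ φ π c) {x : Fin 5} (hx : x ≠ c) :
    ∃ ψ' φ', PC B K W ψ' φ' pi0 4 ∧ ∀ a, (∀ i, ψ a i = 1 ↔ i = x ∨ i = π x) →
      ψ' a = ![1, 1, 0, 0, 0] := by
  obtain ⟨ρ, e1, e2, e3, e4⟩ := exists_std h.pair hx
  have := h.congr ρ
  rw [e1, e2] at this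
  refine ⟨_, _, this, fun a ha => funext fun i => ?_⟩
  have k := ha (ρ⁻¹ i)
  rw [Perm.inv_eq_iff_eq, Perm.inv_eq_iff_eq, e3, e4] at k
  revert k
  generalize ψ a (ρ⁻¹ i) = u
  revert u i
  decide

end Cfsg.Agent.PLocal.Bk.APU
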