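import Cfsg.Agent.APU.Set
import Cfsg.Agent.APU.PC
import Cfsg.Agent.PLocal.CsPa

/-!
Two conjugate blocks `K`, `K'` for the same Sylow subgroup `T`: `O₂(K T)` is elementary abelian.
-/

set_option autoImplicit false
set_option linter.unusedSectionVars false

namespace Cfsg.Agent.PLocal.Bk.APU

open Subgroup Cfsg Cfsg.Agent.PLocal.Amb Cfsg.Agent.PLocal.TV Cfsg.Agent.PLocal.SL2Nat Equiv
open Cfsg.Agent.PLocal.CP (IsCharP)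
open scoped commutatorElement MatrixGroups Cfsg.Agent.PLocal.CP

variable {G : Type*} [Group G] [Finite G]

/-- One block with its uniqueness properties. -/
structure H0 (K T : Subgroup G) : Prop where
  lc : LC G
  syl : IsSyl 2 T (K ⊔ T)
  nK : T ≤ 𝐍[K]
  blk : Blk 2 𝐁[2, T] K
  hsyl : ∀ S : Subgroup G, IsPGroup 2 S → pCoreOf 2 (K ⊔ T) ≤ S → S ≤ 𝐍[K] →
    ⁅S, K⁆ ≤ pCoreOf 2 K → S = pCoreOf 2 (K ⊔ T)
  uniq : ∀ R : Subgroup G, IsPGroup 2 R → R ≠ ⊥ → K ≤ 𝐍[R] → T ≤ 𝐍[R] → 𝐍[R] ≤ 𝐍[K]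
  cent : ∀ g ∈ 𝐍[K], g ∈ 𝐂[pCoreOf 2 (K ⊔ T)] → g ∈ pCoreOf 2 (K ⊔ T)

theorem H0.cj {K T : Subgroup G} (h : H0 K T) (g : G) : H0 cj(g, K) cj(g, T) := by
  refine ⟨h.lc, by rw [← cj_sup]; exact h.syl.cj g, by rw [normalizer_cj]; exact cj_mono g h.nK,
    by rw [baumann_cj]; exact h.blk.cj g, fun S a b c d => ?_, fun R a b c d => ?_, fun k a b => ?_⟩
  · rw [← cj_cj_inv g S] at b c d ⊢
    rw [← cj_sup, pCoreOf_cj] at b ⊢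
    rw [normalizer_cj] at c
    rw [commutator_cj, pCoreOf_cj] at d
    rw [cj_le_cj_iff] at b c d
    rw [h.hsyl _ (isPGroup_cj _ a) b c d]
  · rw [← cj_cj_inv g R] at c d ⊢
    rw [normalizer_cj, cj_le_cj_iff] at c d
    rw [normalizer_cj g K, normalizer_cj g, cj_le_cj_iff]
    exact h.uniq _ (isPGroup_cj _ a) (by rwa [Ne, cj_eq_bot]) c d
  · rw [← cj_sup, pCoreOf_cj] at b ⊢
    rw [normalizer_cj, mem_cj] at a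
    rw [centralizer_cj, mem_cj] at b
    exact mem_cj.2 (h.cent _ a b)

/-- The pair of blocks. -/
structure P2 (K K' T : Subgroup G) (x : G) : Prop where
  h : H0 K T
  h' : H0 K' T
  xT : x ∈ 𝐍[T]
  e : cj(x, K) = K'
  nil : ∀ R : Subgroup G, IsPGroup 2 R → K ≤ 𝐍[R] → K' ≤ 𝐍[R] → T ≤ 𝐍[R] → R = ⊥
  typ : LinT 2 𝐁[2, T] K ∨ SymF 2 1 K ∨ SymF 2 2 K

theorem Hy.p2 {K T : Subgroup G} (h : Hy K T) {x : G} (hx : x ∈ 𝐍[T]) (hK : x ∉ 𝐍[K]) :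
    P2 K cj(x, K) T x := by
  have b := h.blk hx hK
  have h0 : H0 K T := ⟨h.lc, h.syl, h.nK, b, h.hsyl, h.uniq, fun g => h.cent_le⟩
  have h1 := h0.cj x
  rw [cj_of_mem_normalizer hx] at h1
  refine ⟨h0, h1, hx, rfl, fun R a k1 k2 k3 => by_contra fun n => hK ?_, ?_⟩
  · have o := le_normalizer_pCoreOf 2 𝐍[K]
    have k := h1.uniq _ (isPGroup_pCoreOf 2 _) h.coreM_ne ((k2.trans (h.uniq R a n k1 k3)).trans o)
      (h.nK.trans o)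
    have e : 𝐍[K] = cj(x, 𝐍[K]) :=
      eq_of_le_of_card_ge (normalizer_cj x K ▸ o.trans k) (card_cj _ _).le
    exact h.uniq _ (isPGroup_pCoreOf 2 _) h.coreM_ne (le_normalizer.trans o) (h.nK.trans o)
      (normalizer_le_normalizer_pCoreOf 2 _ (cj_eq_iff.1 e.symm))
  · refine b.typ.imp_right fun ⟨m, hm⟩ => ?_
    obtain ⟨ψ, φ, π, c, l⟩ := exists_pc b hm
    have e : pCoreOf 2 K = 𝐖[2, K] := b.Q_eq_W (m_not_exc_of_sym ⟨m, hm⟩)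
    have h1 := hm.pos
    by_contra k
    have h3 : 3 ≤ m := by
      by_contra j
      have : m = 1 ∨ m = 2 := by omega
      rcases this with rfl | rfl
      exacts [k (Or.inl hm), k (Or.inr hm)]
    obtain ⟨σ, hσ⟩ := (Perm.exists_with_cycleType_iff (Fin (2 * m + 1)) (m := {4, 2})).2
      ⟨by simp; omega, by simp⟩
    obtain ⟨g, hg, rfl⟩ := l.liftK σ (by rw [Perm.sign_of_cycleType, hσ]; rfl)
    have h2 : orderOf (φ g) = 4 := by rw [← Perm.lcm_cycleType, hσ]; rfl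
    have h4 := h.four g hg (e ▸ (l.kerK _ (pow_mem hg _)).1 (by
      rw [l.pow (le_normalizer hg), ← orderOf_dvd_iff_pow_eq_one, h2]; rfl))
    rw [e, ← l.kerK _ (pow_mem hg _), l.pow (le_normalizer hg), ← orderOf_dvd_iff_pow_eq_one,
      h2] at h4
    omega

namespace H0

variable {K T : Subgroup G} (h : H0 K T)
include h

theorem QW : pCoreOf 2 K = 𝐖[2, K] :=
  h.blk.mem_cases.resolve_right fun ⟨_, _, _, _, e⟩ => absurd e.three (by decide)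

theorem H_le : K ⊔ T ≤ 𝐍[K] := sup_le le_normalizer h.nK

theorem nW : 𝐍[K] ≤ 𝐍[𝐖[2, K]] := Bas.norm_le_norm_W 2 K

theorem nQ : K ⊔ T ≤ 𝐍[pCoreOf 2 (K ⊔ T)] := le_normalizer_pCoreOf 2 _

theorem Q_le : pCoreOf 2 (K ⊔ T) ≤ T := h.syl.pCoreOf_le

theorem W_le : 𝐖[2, K] ≤ pCoreOf 2 (K ⊔ T) := h.QW ▸ pCoreOf_mono_of_normal le_sup_left h.H_le

theorem B_le : 𝐁[2, T] ≤ T := baumann_le T

theorem nB : 𝐍[T] ≤ 𝐍[𝐁[2, T]] := normalizer_le_normalizer_baumann T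

theorem comm_le {X : Subgroup G} (h1 : X ≤ 𝐍[K]) (h2 : X ≤ 𝐂[𝐖[2, K]]) : ⁅K, X⁆ ≤ 𝐖[2, K] :=
  h.QW ▸ h.blk.comm_le_Q h1 h2

theorem norm_of {X : Subgroup G} (h0 : 𝐖[2, K] ≤ X) (h1 : X ≤ 𝐍[K]) (h2 : X ≤ 𝐂[𝐖[2, K]]) :
    K ≤ 𝐍[X] := BM.norm_of_comm_le ((h.comm_le h1 h2).trans h0)

theorem Q_le_c : pCoreOf 2 (K ⊔ T) ≤ 𝐂[𝐖[2, K]] := by
  have n := h.Q_le.trans h.nK
  have l : ⁅pCoreOf 2 (K ⊔ T), 𝐖[2, K]⁆ ≤ 𝐖[2, K] := r1_comm_le_right (n.trans h.nW)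
  rcases h.blk.irr (l.trans (Bas.W_le_S 2 K)) (le_normalizer_commutator (le_sup_left.trans h.nQ)
    (le_normalizer.trans h.nW)) with k | k
  · exact fun g hg => h.blk.cent_of_triv (n hg) fun w hw => k (commutator_mem_commutator hg hw)
  · rw [Subgroup.commutator_comm (pCoreOf 2 (K ⊔ T))] at k
    exact absurd ((eq_bot_of_le_commutator_of_isNilpotent (isPGroup_pCoreOf 2 (K ⊔ T)).isNilpotent
      h.W_le k).le.trans bot_le) h.blk.not_W_le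

theorem eqQ {S : Subgroup G} (hS : IsPGroup 2 S) (h1 : pCoreOf 2 (K ⊔ T) ≤ S) (h2 : S ≤ 𝐍[K])
    (h3 : S ≤ 𝐂[𝐖[2, K]]) : S = pCoreOf 2 (K ⊔ T) :=
  h.hsyl S hS h1 h2 (commutator_comm K S ▸ h.blk.comm_le_Q h2 h3)

theorem inf_c : T ⊓ 𝐂[𝐖[2, K]] = pCoreOf 2 (K ⊔ T) :=
  h.eqQ (h.syl.pgrp.to_le inf_le_left) (le_inf h.Q_le h.Q_le_c) (inf_le_left.trans h.nK) inf_le_right

theorem memQ {g : G} (h1 : g ∈ T) (h2 : g ∈ 𝐂[𝐖[2, K]]) : g ∈ pCoreOf 2 (K ⊔ T) :=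
  h.inf_c ▸ mem_inf.2 ⟨h1, h2⟩

theorem Q_ne : pCoreOf 2 (K ⊔ T) ≠ ⊥ := fun e => h.blk.not_W_le ((h.W_le.trans e.le).trans bot_le)

theorem normQ : 𝐍[pCoreOf 2 (K ⊔ T)] ≤ 𝐍[K] :=
  h.uniq _ (isPGroup_pCoreOf 2 _) h.Q_ne (le_sup_left.trans h.nQ) (le_sup_right.trans h.nQ)

theorem centQ : 𝐂[pCoreOf 2 (K ⊔ T)] ≤ pCoreOf 2 (K ⊔ T) := fun g hg =>
  h.cent g (h.normQ (centralizer_le_normalizer' _ hg)) hg

theorem K_eq (hs : ∀ q ∈ pCoreOf 2 (K ⊔ T), q * q = 1) : 𝐊[2, 𝐁[2, T], K] = pCoreOf 2 (K ⊔ T) := by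
  obtain ⟨A, hA⟩ := maxEA_nonempty 2 𝐁[2, T]
  have m := h.blk.member_W hA
  have l : (A ⊓ 𝐂[𝐖[2, K]]) ⊔ 𝐖[2, K] ≤ 𝐊[2, 𝐁[2, T], K] :=
    le_inf m.1 (sup_le inf_le_right (m_W_le_cent K))
  have l' : 𝐊[2, 𝐁[2, T], K] ≤ pCoreOf 2 (K ⊔ T) := h.inf_c ▸ inf_le_inf_right _ h.B_le
  refine le_antisymm l' (le_trans ?_ l)
  exact (bau_baumann h.syl).le_member m (isEA_iff.2 ⟨fun a ha b hb => CL2.comm_of_sq hs ha hb,
    fun a ha => by rw [sq, hs a ha]⟩) ((h.B_le.trans le_sup_right).trans h.nQ)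
    (pCoreOf_le 2 _) fun a ha b hb => CL2.comm_of_sq hs (l' (l hb)) ha

variable {X : Subgroup G} (x1 : X ≤ 𝐁[2, T]) (x2 : X ≤ 𝐂[X]) (x3 : ¬ X ≤ 𝐂[𝐖[2, K]])
  (x4 : (𝐂[X]).relIndex 𝐖[2, K] ≤ (𝐂[𝐖[2, K]]).relIndex X)
include x1 x2 x3 x4

theorem cov_one (hm : SymF 2 1 K) {q : G} (hq : q ∈ T) : ∃ w ∈ X, w⁻¹ * q ∈ 𝐂[𝐖[2, K]] := by
  obtain ⟨ψ, φ, π, c, l⟩ := exists_pc h.blk hm
  obtain ⟨y, hy, w, hw, e⟩ := l.off X x1 x2 x3 x4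
  have k := l.nB q (h.nK hq) (h.nB (le_normalizer hq))
  have : φ q = 1 ∨ φ q = swap y (π y) :=
    (by decide : ∀ (π σ : Perm (Fin (2 * 1 + 1))) (c y : Fin (2 * 1 + 1)), (∀ x, π x = x ↔ x = c) →
      y ≠ c → (∀ x, σ (π x) = π (σ x)) → σ = 1 ∨ σ = swap y (π y)) π _ c y l.pair.fix hy k
  rcases this with j | j
  · exact ⟨1, one_mem _, by rw [inv_one, one_mul]; exact (l.ker q (h.nK hq)).1 j⟩
  · exact ⟨w, hw, l.of_eq (h.blk.B_le_norm (x1 hw)) (h.nK hq) (e.trans j.symm)⟩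

omit x1 x2 x3 x4 in
theorem ex_t {ψ : G → Fin 5 → ZMod 2} {φ : G → Perm (Fin 5)}
    (l : PC 𝐁[2, T] K 𝐖[2, K] ψ φ pi0 4) : ∃ t ∈ T, φ t * swap 0 1 * (φ t)⁻¹ = swap 2 3 := by
  by_contra hc
  have m : ∀ t ∈ T, ∀ x, φ t x = x ∨ φ t x = pi0 x := fun t ht =>
    ((by decide +kernel : ∀ σ : Perm (Fin 5), (∀ x, σ (pi0 x) = pi0 (σ x)) →
      σ * swap 0 1 * σ⁻¹ = swap 2 3 ∨ ∀ x, σ x = x ∨ σ x = pi0 x) _
      (l.nB t (h.nK ht) (h.nB (le_normalizer ht)))).resolve_left fun k => hc ⟨t, ht, k⟩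
  have e : T = 𝐁[2, T] ⊔ pCoreOf 2 (K ⊔ T) := le_antisymm (fun t ht => by
    obtain ⟨b, hb, j⟩ := l.liftB _ (m t ht)
    rw [← mul_inv_cancel_left b t]
    exact mul_mem (mem_sup_left hb) (mem_sup_right (h.memQ (mul_mem (inv_mem (h.B_le hb)) ht)
      (l.of_eq (h.blk.B_le_norm hb) (h.nK ht) j)))) (sup_le h.B_le h.Q_le)
  obtain ⟨k, hk, j⟩ := l.liftK (swap 0 2 * swap 1 3) (by decide)
  have k1 : k ∈ 𝐍[T] := by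
    rw [e]
    exact le_normalizer_sup (L := 𝐍[𝐁[2, T]] ⊓ 𝐍[pCoreOf 2 (K ⊔ T)]) inf_le_left inf_le_right
      ⟨l.nB' k hk (by rw [j]; decide), h.nQ (mem_sup_left hk)⟩
  have k2 : k ^ 2 ∈ T := h.Q_le (h.W_le ((l.kerK _ (pow_mem hk 2)).1 (by
    rw [l.pow (le_normalizer hk), j]; decide)))
  obtain ⟨n, hn⟩ := isPGroup_iff.1 h.syl.pgrp _ k2
  have := m k (zpowers_le.1 (h.syl.le_of_normalizes (isPGroup_zpowers
    ⟨n + 1, by rw [pow_succ', pow_mul, hn]⟩) (zpowers_le.2 (mem_sup_left hk)) (zpowers_le.2 k1))) 0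
  rw [j] at this
  revert this
  decide

theorem two_swaps (x5 : T ≤ 𝐍[X]) {ψ : G → Fin 5 → ZMod 2} {φ : G → Perm (Fin 5)}
    (l : PC 𝐁[2, T] K 𝐖[2, K] ψ φ pi0 4) :
    (∃ a ∈ X, φ a = swap 0 1) ∧ ∃ b ∈ X, φ b = swap 2 3 := by
  obtain ⟨t, ht, e⟩ := h.ex_t l
  obtain ⟨y, hy, w, hw, j⟩ := l.off X x1 x2 x3 x4
  have n := h.blk.B_le_norm (x1 hw)
  rcases (by decide : ∀ y : Fin 5, y ≠ 4 → swap y (pi0 y) = swap 0 1 ∨ swap y (pi0 y) = swap 2 3)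
    y hy with k | k <;> rw [k] at j
  · exact ⟨⟨w, hw, j⟩, _, conj_mem_of_mem_normalizer (x5 ht) hw, by rw [l.conj (h.nK ht) n, j, e]⟩
  · refine ⟨⟨_, conj_mem_of_mem_normalizer (inv_mem (x5 ht)) hw, ?_⟩, w, hw, j⟩
    rw [l.conj (inv_mem (h.nK ht)) n, j, ← e, l.inv (h.nK ht)]
    group

theorem cov_two (x5 : T ≤ 𝐍[X]) (hm : SymF 2 2 K) {q : G} (hq : q ∈ T) (hc : q ∈ 𝐂[X]) :
    ∃ w ∈ X, w⁻¹ * q ∈ 𝐂[𝐖[2, K]] := by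
  obtain ⟨ψ, φ, π, c, l⟩ := exists_pc h.blk hm
  obtain ⟨y, hy⟩ := exists_ne c
  obtain ⟨ψ, φ, l, -⟩ := PC.std l hy
  obtain ⟨⟨a, ha, e⟩, b, hb, e'⟩ := h.two_swaps x1 x2 x3 x4 x5 l
  have n := x1.trans h.blk.B_le_norm
  have k : ∀ w ∈ X, φ w * φ q = φ q * φ w := fun w hw => by
    rw [← l.mul _ (n hw) _ (h.nK hq), hc w hw, l.mul _ (h.nK hq) _ (n hw)]
  have fin : ∀ w ∈ X, φ q = φ w → ∃ w ∈ X, w⁻¹ * q ∈ 𝐂[𝐖[2, K]] := fun w hw j =>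
    ⟨w, hw, l.of_eq (n hw) (h.nK hq) j.symm⟩
  rcases (by decide +kernel : ∀ σ : Perm (Fin 5), swap 0 1 * σ = σ * swap 0 1 →
    swap 2 3 * σ = σ * swap 2 3 → σ = 1 ∨ σ = swap 0 1 ∨ σ = swap 2 3 ∨ σ = swap 0 1 * swap 2 3)
    (φ q) (e ▸ k a ha) (e' ▸ k b hb) with j | j | j | j
  · exact fin 1 (one_mem _) (j.trans l.one.symm)
  · exact fin a ha (j.trans e.symm)
  · exact fin b hb (j.trans e'.symm)
  · exact fin _ (mul_mem ha hb) (by rw [l.mul _ (n ha) _ (n hb), e, e', j])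

end H0

namespace P2

variable {K K' T : Subgroup G} {x : G} (p : P2 K K' T x)
include p

theorem xB : x ∈ 𝐍[𝐁[2, T]] := p.h.nB p.xT

theorem symm : P2 K' K T x⁻¹ :=
  ⟨p.h', p.h, inv_mem p.xT, by rw [← p.e, cj_inv_cj], fun R a b c d => p.nil R a c b d, by
    rw [← p.e]
    exact p.typ.imp (m_linT_cj · p.xB)
      (Or.imp (symF_map_iff (conj_inj x)).2 (symF_map_iff (conj_inj x)).2)⟩

theorem nc : ¬ 𝐖[2, K'] ≤ 𝐂[𝐖[2, K]] := fun k => by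
  have key : ∀ {K K' : Subgroup G}, H0 K T → H0 K' T → 𝐖[2, K'] ≤ 𝐂[𝐖[2, K]] →
      K ≤ 𝐍[𝐖[2, K] ⊔ 𝐖[2, K']] := fun h h' k => h.norm_of le_sup_left
    ((sup_le h.W_le fun w hw => h.memQ (h'.Q_le (h'.W_le hw)) (k hw)).trans (h.Q_le.trans h.nK))
    (sup_le (m_W_le_cent _) k)
  have l : 𝐖[2, K] ⊔ 𝐖[2, K'] ≤ T := sup_le (p.h.W_le.trans p.h.Q_le) (p.h'.W_le.trans p.h'.Q_le)
  have := p.nil _ (p.h.syl.pgrp.to_le l) (key p.h p.h' k)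
    (sup_comm 𝐖[2, K'] _ ▸ key p.h' p.h (cent_symm k))
    (le_normalizer_sup (p.h.nK.trans p.h.nW) (p.h'.nK.trans p.h'.nW))
  exact p.h.blk.not_W_le ((le_sup_left.trans this.le).trans bot_le)

theorem r1 (r : R1 𝐁[2, T] K) : R1 𝐁[2, T] K' := p.e ▸ r.cj p.xB

theorem q_eq : (𝐂[𝐖[2, K']]).relIndex 𝐁[2, T] = (𝐂[𝐖[2, K]]).relIndex 𝐁[2, T] :=
  p.e ▸ m_relIndex_W_cj p.xB

theorem off (hs : SymT 2 K) :
    (𝐂[𝐖[2, K']]).relIndex 𝐖[2, K] ≤ (𝐂[𝐖[2, K]]).relIndex 𝐖[2, K'] :=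
  (p.h'.blk.m_sym_off (p.e ▸ m_symT_cj hs x) p.h.blk.W_le_B (m_W_le_cent K)).1

theorem cover {q : G} (hq : q ∈ pCoreOf 2 (K' ⊔ T)) : ∃ w ∈ 𝐖[2, K'], w⁻¹ * q ∈ 𝐂[𝐖[2, K]] := by
  have qT := p.h'.Q_le hq
  rcases p.typ with hl | hm | hm
  · have r : R1 𝐁[2, T] K := ⟨p.h.blk, (p.h.blk.lin_rt hl).1⟩
    have c := fun b hb => Pt.cover (p.q_eq ▸ (p.r1 r).pt) r.pt p.nc (b := b) hb
    obtain ⟨b, hb, e⟩ := p.h.blk.lin_of_fix hl (isPGroup_iff.1 p.h.syl.pgrp q qT) (p.h.nK qT)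
      fun w hw => by
        rw [p.h.blk.inf_cent_B] at hw
        have : w ∈ 𝐖[2, K'] := by
          refine commutator_le.2 (fun u hu b hb => ?_) hw
          obtain ⟨v, hv, e⟩ := c b hb
          rw [← mul_inv_cancel_left v b, BM.comm_mul_right, BM.comm_eq_one_of_cent' e hu]
          simpa using BM.comm_mem_right (p.h'.nW (p.h'.nK (p.h.Q_le (p.h.W_le hu)))) hv
        rw [BM.comm_eq_one_of_cent (p.h'.Q_le_c hq) this]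
        exact one_mem _
    obtain ⟨v, hv, e'⟩ := c b hb
    exact ⟨v, hv, by simpa using mul_mem e' e⟩
  · exact p.h.cov_one p.h'.blk.W_le_B (m_W_le_cent _) p.nc (p.off ⟨1, hm⟩) hm qT
  · exact p.h.cov_two p.h'.blk.W_le_B (m_W_le_cent _) p.nc (p.off ⟨2, hm⟩)
      (p.h'.nK.trans p.h'.nW) hm qT (p.h'.Q_le_c hq)

theorem sq_mem {q : G} (hq : q ∈ pCoreOf 2 (K' ⊔ T)) : ∃ d ∈ pCoreOf 2 (K ⊔ T), q * q = d * d := by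
  obtain ⟨w, hw, e⟩ := p.cover hq
  refine ⟨_, p.h.memQ (mul_mem (inv_mem (p.h'.Q_le (p.h'.W_le hw))) (p.h'.Q_le hq)) e, ?_⟩
  have c := p.h'.Q_le_c hq _ (inv_mem hw)
  have s : w⁻¹ * w⁻¹ = 1 := by rw [← sq]; exact m_W_pow K' (inv_mem hw)
  rw [mul_assoc, ← mul_assoc q, ← c, mul_assoc, ← mul_assoc, s, one_mul]

theorem sq {q : G} (hq : q ∈ pCoreOf 2 (K ⊔ T)) : q * q = 1 := by
  have n : ∀ Q : Subgroup G, 𝐍[Q] ≤ 𝐍[closure {s | ∃ q ∈ Q, s = q * q}] := fun Q g hg =>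
    mem_normalizer_of_cj_le (by
      rw [cj_le_iff, closure_le]
      rintro _ ⟨q, hq, rfl⟩
      refine mem_cj.2 (subset_closure ⟨_, conj_mem_of_mem_normalizer hg hq, ?_⟩)
      group)
  have e : {s | ∃ q ∈ pCoreOf 2 (K ⊔ T), s = q * q} = {s | ∃ q ∈ pCoreOf 2 (K' ⊔ T), s = q * q} :=
    Set.ext fun s => ⟨fun ⟨q, hq, e⟩ => e ▸ p.symm.sq_mem hq, fun ⟨q, hq, e⟩ => e ▸ p.sq_mem hq⟩
  have := p.nil (closure {s | ∃ q ∈ pCoreOf 2 (K ⊔ T), s = q * q})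
    ((isPGroup_pCoreOf 2 (K ⊔ T)).to_le (by
      rw [closure_le]; rintro _ ⟨q, hq, rfl⟩; exact mul_mem hq hq))
    ((le_sup_left.trans p.h.nQ).trans (n _)) (e ▸ (le_sup_left.trans p.h'.nQ).trans (n _))
    ((le_sup_right.trans p.h.nQ).trans (n _))
  exact mem_bot.1 (this ▸ subset_closure ⟨q, hq, rfl⟩)

theorem K_eq : 𝐊[2, 𝐁[2, T], K] = pCoreOf 2 (K ⊔ T) := p.h.K_eq fun _ => p.sq

theorem bot {d : G} (h1 : d ∈ T) (h2 : d ∈ 𝐂[K]) (h3 : d ∈ 𝐂[K']) : d = 1 :=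
  mem_bot.1 (p.nil (T ⊓ 𝐂[K] ⊓ 𝐂[K']) (p.h.syl.pgrp.to_le (inf_le_left.trans inf_le_left))
    (BM.norm_of_le_cent (inf_le_left.trans inf_le_right)) (BM.norm_of_le_cent inf_le_right)
    (le_normalizer_inf (le_normalizer_inf le_normalizer (le_normalizer_centralizer p.h.nK))
      (le_normalizer_centralizer p.h'.nK)) ▸ mem_inf.2 ⟨mem_inf.2 ⟨h1, h2⟩, h3⟩)

theorem pa (r : R1 𝐁[2, T] K) : Pa 𝐁[2, T] K K' :=
  ⟨r, p.r1 r, p.nc, fun _ hd => p.bot (p.h.B_le hd)⟩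

end P2

end Cfsg.Agent.PLocal.Bk.APU
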