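import Cfsg.Agent.APU.Fin
import Cfsg.Agent.PLocal.CsE1a

/-!
Centralizers of the involutions of `Z = U ∩ U'` when `C_B(K) ≠ 1`.
-/

set_option autoImplicit false
set_option linter.unusedSectionVars false

namespace Cfsg.Agent.PLocal.Bk.APU

open Subgroup Cfsg Cfsg.Agent.PLocal.Amb Cfsg.Agent.PLocal.TV
open Cfsg.Agent.PLocal.CP (IsCharP)
open Cfsg.Agent.CL2 (TM)
open scoped commutatorElement Cfsg.Agent.PLocal.CP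

variable {G : Type*} [Group G] [Finite G]

/-- `t` is an involution of `R` whose centralizer has index at most two. -/
structure Ix (R : Subgroup G) (t : G) : Prop where
  mem : t ∈ R
  sq : t * t = 1
  tri : ∀ a ∈ R, ∀ b ∈ R, a * t ≠ t * a → b * t ≠ t * b → a * b * t = t * (a * b)

theorem Ix.conj {R : Subgroup G} {t c : G} (h : Ix R t) (hc : c ∈ 𝐍[R]) : Ix R (c * t * c⁻¹) := by
  have e : ∀ a, a * (c * t * c⁻¹) = c * t * c⁻¹ * a ↔ c⁻¹ * a * c * t = t * (c⁻¹ * a * c) :=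
    fun a => ⟨fun k => by
      rw [show c⁻¹ * a * c * t = c⁻¹ * (a * (c * t * c⁻¹)) * c by group, k]; group, fun k => by
      rw [show a * (c * t * c⁻¹) = c * (c⁻¹ * a * c * t) * c⁻¹ by group, k]; group⟩
  refine ⟨conj_mem_of_mem_normalizer hc h.mem, conj_sq h.sq, fun a ha b hb h1 h2 => (e _).2 ?_⟩
  rw [show c⁻¹ * (a * b) * c = c⁻¹ * a * c * (c⁻¹ * b * c) by group]
  exact h.tri _ (inv_conj_mem_of_mem_normalizer hc ha) _ (inv_conj_mem_of_mem_normalizer hc hb)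
    (mt (e a).2 h1) (mt (e b).2 h2)

namespace Tw

variable {B K K' U U' : Subgroup G} {x : G} (h : Tw B K K' U U' x)
include h

theorem card : Nat.card U = Nat.card U' := by rw [← (h.tm.e2_swap h.xB h.xU).1, card_cj]

theorem nUU {g : G} (h1 : g ∈ 𝐍[U]) (h2 : g ∈ 𝐍[U']) : g ∈ 𝐍[B] :=
  E1.mem_nB h.tm (Or.inl (cj_eq_iff.2 h1)) (Or.inr (cj_eq_iff.2 h2))

theorem nB_K {k : G} (hk : k ∈ K') (hn : k ∈ 𝐍[B]) : k ∈ 𝐍[B] ⊓ 𝐍[U] :=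
  ⟨hn, h.tm.symm.e2_nU hn (h.s'.kU hk)⟩

theorem cD {d : G} (hd : d ∈ B ⊓ 𝐂[K]) (d1 : d ≠ 1) : 𝐂[zpowers d] ≤ 𝐍[U] := by
  obtain ⟨a, ha, a1, k⟩ := h.s.cd fun e => d1 (mem_bot.1 (e ▸ hd))
  have z := h.s.D_le ha
  have z' := h.s.D_le hd
  obtain ⟨g, g1, g2, e⟩ := h.s'.tr a ⟨z.2, z.1⟩ (fun k => a1 (h.bot a ha.1 ha.2 k)) d ⟨z'.2, z'.1⟩
    fun k => d1 (h.bot d hd.1 hd.2 k)
  have n := h.nB_K g1 g2
  have m := mul_mem (conj_mem_of_mem_normalizer (h.nD n) ha) (inv_mem hd)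
  rw [← mul_inv_eq_one.1 (h.bot _ m.1 m.2 e), centralizer_zpowers, centralizer_singleton_conj,
    ← centralizer_zpowers]
  exact cj_le_of_mem k n.2

theorem dec (hD : B ⊓ 𝐂[K] ≠ ⊥) {z : G} (hz : z ∈ U ⊓ U') :
    ∃ d ∈ B ⊓ 𝐂[K], ∃ d' ∈ B ⊓ 𝐂[K'], z = d * d' := by
  by_cases k : z ∈ 𝐂[K]
  · exact ⟨z, ⟨h.tm.leA hz.1, k⟩, 1, one_mem _, (mul_one z).symm⟩
  obtain ⟨⟨a, ha⟩, a1⟩ := ne_bot_iff_exists_ne_one.1 (h.D_ne hD)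
  have z' := h.s'.D_le ha
  obtain ⟨g, g1, g2, e⟩ := h.s.tr a ⟨z'.2, z'.1⟩
    (fun k => a1 (Subtype.ext (h.bot a ha.1 k ha.2))) z hz k
  have m := conj_mem_of_mem_normalizer (h.nD' ⟨g2, h.s.kU g1⟩) ha
  exact ⟨(g * a * g⁻¹ * z⁻¹)⁻¹, inv_mem (mem_inf.2 ⟨mul_mem m.1 (inv_mem (h.tm.leA hz.1)), e⟩), _, m,
    by group⟩

theorem split {t d d' : G} (ht : t ∈ 𝐍[B] ⊓ 𝐍[U]) (hd : d ∈ B ⊓ 𝐂[K]) (hd' : d' ∈ B ⊓ 𝐂[K'])
    (e : d * d' * t = t * (d * d')) : d * t = t * d ∧ d' * t = t * d' := by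
  have m := mul_mem (inv_mem hd) (conj_mem_of_mem_normalizer (h.nD ht) hd)
  have m' := mul_mem hd' (inv_mem (conj_mem_of_mem_normalizer (h.nD' ht) hd'))
  have e' : d⁻¹ * (t * d * t⁻¹) = d' * (t * d' * t⁻¹)⁻¹ := by
    rw [show d' * (t * d' * t⁻¹)⁻¹ = d⁻¹ * (d * d' * t) * d'⁻¹ * t⁻¹ by group, e]; group
  have k := h.bot _ m.1 m.2 (e' ▸ m'.2)
  constructor
  · rw [← mul_inv_eq_iff_eq_mul.1 (inv_mul_eq_one.1 k).symm]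
  · rw [e', mul_inv_eq_one] at k
    rw [← mul_inv_eq_iff_eq_mul.1 k.symm]

theorem ex_nc (hD : B ⊓ 𝐂[K] ≠ ⊥) {t : G} (ht : t ∈ 𝐍[B] ⊓ 𝐍[U]) (t2 : t * t = 1) (tB : t ∉ B) :
    ∃ d ∈ B ⊓ 𝐂[K'], d * t ≠ t * d := by
  by_contra hc
  refine tB (h.s.fixZ t ht ⟨1, by rw [pow_one, sq, t2]⟩ fun z hz => ?_)
  obtain ⟨d, hd, d', hd', rfl⟩ := h.dec hD hz
  have e : d' * t = t * d' := by_contra fun k => hc ⟨d', hd', k⟩
  rw [show t * (d * d') * t⁻¹ * (d * d')⁻¹ = t * d * t⁻¹ * (t * d') * t⁻¹ * d'⁻¹ * d⁻¹ by group, ← e,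
    show t * d * t⁻¹ * (d' * t) * t⁻¹ * d'⁻¹ * d⁻¹ = t * d * t⁻¹ * d⁻¹ by group]
  exact (mul_mem (conj_mem_of_mem_normalizer (h.nD ht) hd) (inv_mem hd)).2

variable {R : Subgroup G} (r1 : R ≤ 𝐍[B]) (r2 : B ≤ 𝐍[R]) {r : G} (hr : r ∈ R) (rU : r ∉ 𝐍[U])
include r1 r2 hr rU

theorem Z_le : U ⊓ U' ≤ R := by
  refine h.s.comm.trans (commutator_le.2 fun u hu v hv => ?_)
  have h0 : r⁻¹ * v * r ∈ U := by rw [← mem_cj, (h.tm.e2_swap (r1 hr) rU).1]; exact hv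
  have h1 : (r⁻¹ * v * r)⁻¹ * v ∈ R := by
    rw [show (r⁻¹ * v * r)⁻¹ * v = r⁻¹ * (v⁻¹ * r * v) by group]
    exact mul_mem (inv_mem hr) (inv_conj_mem_of_mem_normalizer (r2 (h.tm.leB hv)) hr)
  have h2 := BM.comm_mem_right (r2 (h.tm.leA hu)) h1
  have h3 := h.tm.comm_mem (h.tm.leA hu) (h.tm.leB hv)
  generalize r⁻¹ * v * r = w at h0 h2
  rwa [show ⁅u, w⁻¹ * v⁆ = u * w⁻¹ * v * u⁻¹ * v⁻¹ * w⁻¹⁻¹ by rw [commutatorElement_def]; group,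
    h.tm.comm hu (inv_mem h0), show w⁻¹ * u * v * u⁻¹ * v⁻¹ * w⁻¹⁻¹ =
      w⁻¹ * (u * v * u⁻¹ * v⁻¹) * w⁻¹⁻¹ by group, h.tm.z_conj h3.1 h3.2 (h.tm.leA (inv_mem h0))] at h2

theorem ix_U {t : G} (i : Ix R t) (hU : t ∈ U) : t ∈ U' := by
  by_contra k
  obtain ⟨a, ha, b, hb, a1, b1, ab⟩ := h.s'.idx
  have sw : ∀ v ∈ U', r * v * r⁻¹ ∈ U := fun v hv => by
    rw [← (h.tm.e2_swap (r1 hr) rU).2]; exact conj_mem_cj r hv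
  have m : ∀ v ∈ U', r * v * r⁻¹ * v⁻¹ ∈ R := fun v hv => by
    rw [mul_assoc r, mul_assoc r]
    exact mul_mem hr (conj_mem_of_mem_normalizer (r2 (h.tm.leB hv)) (inv_mem hr))
  have mB : ∀ v ∈ U', r * v * r⁻¹ * v⁻¹ ∈ B := fun v hv =>
    mul_mem (h.tm.leA (sw v hv)) (h.tm.leB (inv_mem hv))
  have nc : ∀ v ∈ U', v ∉ U → r * v * r⁻¹ * v⁻¹ * t ≠ t * (r * v * r⁻¹ * v⁻¹) := fun v hv v1 e =>
    v1 (inv_mem_iff.1 ((mul_mem_cancel_left (sw v hv)).1 (h.tm.mem_of_comm (mB v hv) hU k e)))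
  have := h.tm.mem_of_comm (mul_mem (mB a ha) (mB b hb)) hU k
    (i.tri _ (m a ha) _ (m b hb) (nc a ha a1) (nc b hb b1))
  rw [show r * a * r⁻¹ * a⁻¹ * (r * b * r⁻¹ * b⁻¹) =
    r * a * r⁻¹ * (a⁻¹ * (r * b * r⁻¹) * a⁻¹⁻¹) * (b * a)⁻¹ by group] at this
  refine ab ?_
  rw [h.tm.symm.comm ha hb]
  exact inv_mem_iff.1 ((mul_mem_cancel_left (mul_mem (sw a ha)
    (h.tm.conj_mem (h.tm.leB (inv_mem ha)) (sw b hb)))).1 this)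

theorem ix_Z (hD : B ⊓ 𝐂[K] ≠ ⊥) {t : G} (i : Ix R t) : t ∈ U ⊓ U' := by
  have zR := h.Z_le r1 r2 hr rU
  have dR : ∀ d ∈ B ⊓ 𝐂[K], d ∈ R := fun d hd => zR (h.s.D_le hd)
  have tN := r1 i.mem
  by_cases tU : t ∈ 𝐍[U]
  swap
  · obtain ⟨⟨d, hd⟩, d1⟩ := ne_bot_iff_exists_ne_one.1 hD
    obtain ⟨g, hg, gB⟩ := SetLike.not_le_iff_exists.1 h.s'.car
    have m := conj_mem_of_mem_normalizer (h.nD (h.nB_K hg.1 hg.2)) hd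
    have nc : ∀ v ∈ B ⊓ 𝐂[K], v * t = t * v → v = 1 := fun v hv e => h.bot v hv.1 hv.2 (by
      have := conj_mem_cj t hv
      rw [h.cjD tN tU, ← e, mul_inv_cancel_right] at this
      exact this.2)
    have d1' : d ≠ 1 := fun e => d1 (Subtype.ext e)
    have := nc _ (mul_mem hd m) (i.tri _ (dR _ hd) _ (dR _ m) (fun e => d1' (nc d hd e))
      fun e => conj_ne d1' (nc _ m e))
    rw [mul_eq_one_iff_inv_eq, h.tm.inv_eq (h.s.bU hd), eq_mul_inv_iff_mul_eq] at this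
    exact absurd (h.bot d hd.1 hd.2 (h.s'.fpf g hg.1 hg.2 gB d hd.1 this.symm)) d1'
  by_cases tB : t ∈ B
  · rcases h.tm.inv t tB i.sq with k | k
    · exact ⟨k, h.ix_U r1 r2 hr rU i k⟩
    · exact ⟨h.symm.ix_U r1 r2 hr (fun j => rU (h.tm.symm.e2_nU (r1 hr) j)) i k, k⟩
  obtain ⟨d', hd', e'⟩ := h.ex_nc hD ⟨tN, tU⟩ i.sq tB
  obtain ⟨d, hd, e⟩ := h.symm.ex_nc (h.D_ne hD) ⟨tN, h.tm.e2_nU tN tU⟩ i.sq tB
  have z := h.s'.D_le hd'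
  exact absurd (h.split ⟨tN, tU⟩ hd hd' (i.tri _ (dR d hd) _ (zR ⟨z.2, z.1⟩) e e')).1 e

omit r1 r2 hr rU

variable (j1 : ∀ A ≤ 𝐍[B], (∀ a ∈ A, a * a = 1) → Nat.card U ≤ Nat.card A → A = U ∨ A = U')
include j1

theorem cj_or {g : G} (e : cj(g, U) ≤ 𝐍[B]) : cj(g, U) = U ∨ cj(g, U) = U' :=
  j1 _ e (h.tm.sq_cj g) (card_cj g U).ge

theorem mem_of_cj {g : G} (e : cj(g, B) ≤ 𝐍[B]) : g ∈ 𝐍[B] :=
  E1.mem_nB h.tm (h.cj_or j1 ((cj_mono g h.tm.leA).trans e))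
    (j1 _ ((cj_mono g h.tm.leB).trans e) (h.tm.symm.sq_cj g) (by rw [card_cj, h.card]))

theorem gs_a {C V : Subgroup G} (hC : C ≤ 𝐍[V]) (hV : 𝐂[V] ≤ 𝐍[B]) (hU : V ≤ U) :
    C ≤ 𝐍[U] ∨ C ≤ 𝐍[B] := by
  have key : ∀ c ∈ C, ∀ X ≤ 𝐂[V], cj(c, X) ≤ 𝐂[V] := fun c hc X hX =>
    cj_le_of_mem_normalizer hX (le_normalizer_centralizer hC hc)
  by_cases k : V ≤ U'
  · exact Or.inr fun c hc => h.mem_of_cj j1
      ((key c hc B (h.tm.le_cZ.trans (centralizer_anti (le_inf hU k)))).trans hV)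
  obtain ⟨v, hv, v1⟩ := SetLike.not_le_iff_exists.1 k
  refine Or.inl fun c hc => ?_
  have k1 := key c hc U (h.tm.A_le_cA.trans (centralizer_anti hU))
  refine cj_eq_iff.1 ((h.cj_or j1 (k1.trans hV)).resolve_right fun e => h.tm.nBA fun a ha => ?_)
  exact h.tm.mem_of_comm (h.tm.leB ha) (hU hv) v1 ((e ▸ k1) ha v hv).symm

theorem gs (hD : B ⊓ 𝐂[K] ≠ ⊥) {y : G} (hy : y ∈ U ⊓ U') (y1 : y ≠ 1) :
    𝐂[zpowers y] ≤ 𝐍[U] ∨ 𝐂[zpowers y] ≤ 𝐍[U'] ∨ 𝐂[zpowers y] ≤ 𝐍[B] := by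
  obtain ⟨d, hd, d', hd', e⟩ := h.dec hD hy
  by_cases d1' : d' = 1
  · rw [d1', mul_one] at e
    exact Or.inl (h.cD (e ▸ hd) y1)
  by_cases d1 : d = 1
  · rw [d1, one_mul] at e
    exact Or.inr (Or.inl (h.symm.cD (e ▸ hd') y1))
  have hC := h.lc.cent' (h.tm.sqA y hy.1) y1
  have hB := h.s.B_le_c hy
  have two : ∀ {a a' : G}, a ∈ B ⊓ 𝐂[K] → a ≠ 1 → a' ∈ B ⊓ 𝐂[K'] → a' ≠ 1 →
      𝐂[zpowers a] ⊓ 𝐂[zpowers a'] ≤ 𝐍[B] := fun a b c d g hg =>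
    h.nUU (h.cD a b hg.1) (h.symm.cD c d hg.2)
  generalize hCC : 𝐂[zpowers y] = C at hC hB
  have cy : ∀ c ∈ C, y * c = c * y := fun c hc => e2_mc.1 (hCC ▸ hc)
  have r0 := le_normalizer_pCoreOf 2 C
  have r2 := hB.trans r0
  have r1 : pCoreOf 2 C ≤ 𝐍[B] := le_sup_right.trans (E1.le_norm_of h.tm h.card j1
    (isPGroup_sup h.s.syl.pgrp (isPGroup_pCoreOf 2 C) r2) le_sup_left)
  by_cases rU : pCoreOf 2 C ≤ 𝐍[U]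
  · have hV := r0.trans (CP.normalizer_le_normalizer_omegaZ (p := 2) _)
    have sp := fun r (hr : r ∈ pCoreOf 2 C) =>
      h.split ⟨r1 hr, rU hr⟩ hd hd' (e ▸ cy r (pCoreOf_le 2 C hr))
    have m : ∀ {a : G}, a ∈ U → (∀ r ∈ pCoreOf 2 C, a * r = r * a) → a ∈ ΩZ[2, pCoreOf 2 C] :=
      fun ha k => CP.mem_omegaZ.2 ⟨hC ⟨hB (h.tm.leA ha), fun r hr => (k r hr).symm⟩,
        fun r hr => (k r hr).symm, by rw [sq, h.tm.sqA _ ha]⟩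
    have m1 := m (h.s.bU hd) fun r hr => (sp r hr).1
    have m2 := m (h.s'.D_le hd').2 fun r hr => (sp r hr).2
    have hc : 𝐂[ΩZ[2, pCoreOf 2 C]] ≤ 𝐍[B] := fun g hg =>
      two hd d1 hd' d1' ⟨e2_mc.2 (hg _ m1), e2_mc.2 (hg _ m2)⟩
    have sq' : ∀ v ∈ ΩZ[2, pCoreOf 2 C], v * v = 1 := fun v hv => by
      rw [← sq]; exact (CP.mem_omegaZ.1 hv).2.2
    have hVB : ΩZ[2, pCoreOf 2 C] ≤ B := fun v hv => by_contra fun k => by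
      have n1 := r1 (CP.omegaZ_le _ hv)
      have n2 := rU (CP.omegaZ_le _ hv)
      have key : ∀ {K U U' : Subgroup G}, Sd B K U U' → v ∈ 𝐍[U] →
          ∃ a ∈ U, a ∉ U' ∧ a ∈ ΩZ[2, pCoreOf 2 C] := fun {K U U'} s n2 => by
        by_contra hc
        refine k (s.fixU v ⟨n1, n2⟩ ⟨1, by rw [pow_one, sq, sq' v hv]⟩ fun u hu =>
          by_contra fun j => hc ⟨_, mul_mem (conj_mem_of_mem_normalizer n2 hu) (inv_mem hu), j, ?_⟩)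
        rw [mul_assoc v, mul_assoc v]
        exact mul_mem hv (conj_mem_of_mem_normalizer (hV (hB (s.tm.leA hu))) (inv_mem hv))
      obtain ⟨a, a1, a2, a3⟩ := key h.s n2
      obtain ⟨b, b1, b2, b3⟩ := key h.s' (h.tm.e2_nU n1 n2)
      exact (h.tm.nc a1 b1 (CL2.comm_of_sq sq' a3 b3)).elim a2 b2
    rcases h.tm.le_or hVB sq' with k | k
    · exact (h.gs_a j1 hV hc k).imp_right Or.inr
    · exact Or.inr (h.symm.gs_a (fun A a b c => (j1 A a b (h.card ▸ c)).symm) hV hc k)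
  obtain ⟨r, hr, rU⟩ := SetLike.not_le_iff_exists.1 rU
  obtain ⟨⟨a, ha⟩, a1⟩ := ne_bot_iff_exists_ne_one.1 (inf_centralizer_ne_bot
    (T := pCoreOf 2 C ⊓ 𝐍[U]) ((isPGroup_pCoreOf 2 C).to_le inf_le_left)
    (h.s.syl.pgrp.to_le inf_le_left) ((inf_le_inf_right _ r1).trans h.nD) hD)
  have a1' : a ≠ 1 := fun e => a1 (Subtype.ext e)
  have i : Ix (pCoreOf 2 C) a := ⟨h.Z_le r1 r2 hr rU (h.s.D_le ha.1), h.tm.sqA a (h.s.bU ha.1),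
    fun s hs t ht s1 t1 => ha.2 _ ⟨mul_mem hs ht, h.tm.e2_mul (r1 hs) (r1 ht)
      (fun k => s1 (ha.2 _ ⟨hs, k⟩)) fun k => t1 (ha.2 _ ⟨ht, k⟩)⟩⟩
  have key : ∀ {t c : G}, Ix (pCoreOf 2 C) t → c ∈ C → cj(c, B) ≤ 𝐂[zpowers t] := fun i hc => by
    rw [cj_le_iff, centralizer_zpowers, ← centralizer_singleton_conj, ← centralizer_zpowers]
    exact h.s.B_le_c (h.ix_Z r1 r2 hr rU hD (i.conj (inv_mem (r0 hc))))
  refine Or.inr (Or.inr fun c hc => h.mem_of_cj j1 (le_trans (le_inf (key i hc)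
    (key (i.conj (le_normalizer hr)) hc)) (two ha.1 a1' ?_ (conj_ne a1'))))
  rw [← h.cjD (r1 hr) rU]
  exact conj_mem_cj r ha.1

end Tw

end Cfsg.Agent.PLocal.Bk.APU
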