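import Cfsg.Agent.PLocal.CsE2a

/-!
Fusion data `S2 B U U'` (a variant of `SY` with a weaker size bound and the TI property as a
hypothesis): involutions of `N(B)` conjugate into `B` lie in `B`.
-/

set_option autoImplicit false
set_option linter.unusedSectionVars false

namespace Cfsg.Agent.PLocal.Bk.APU

open Subgroup Cfsg Cfsg.Agent.PLocal.Amb
open Cfsg.Agent.CL2 (TM)

variable {G : Type*} [Group G]

/-- The symmetric fusion data. -/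
structure S2 (B U U' : Subgroup G) : Prop where
  tm : TM B U U'
  card : Nat.card U = Nat.card U'
  big : 16 < Nat.card U
  big' : 4 < Nat.card ↥(U ⊓ U')
  j1 : ∀ A ≤ 𝐍[B], (∀ a ∈ A, a * a = 1) → Nat.card U ≤ Nat.card A → A = U ∨ A = U'
  r2 : ∀ x ∈ 𝐍[B] ⊓ 𝐍[U], ∀ y ∈ 𝐍[B] ⊓ 𝐍[U], x * x ∈ B → y * y ∈ B →
    (∃ k, (x * y) ^ 2 ^ k = 1) → x ∉ B → y ∉ B → x * y ∈ B
  ti : ∀ k ∈ 𝐍[U], ∀ x ∈ 𝐍[B], x ∈ cj(k, B) → x ∈ B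
  ti' : ∀ k ∈ 𝐍[U'], ∀ x ∈ 𝐍[B], x ∈ cj(k, B) → x ∈ B
  gs : ∀ y ∈ U ⊓ U', y ≠ 1 →
    𝐂[zpowers y] ≤ 𝐍[U] ∨ 𝐂[zpowers y] ≤ 𝐍[U'] ∨ 𝐂[zpowers y] ≤ 𝐍[B]

variable {B U U' B₁ Y Y' : Subgroup G} {x : G}

namespace S2

theorem symm (h : S2 B U U') : S2 B U' U :=
  ⟨h.tm.symm, h.card.symm, h.card ▸ h.big, by rw [inf_comm]; exact h.big',
    fun A hA h1 h2 => (h.j1 A hA h1 (h.card ▸ h2)).symm,
    fun x hx y hy => h.r2 x ⟨hx.1, h.tm.symm.e2_nU hx.1 hx.2⟩ y ⟨hy.1, h.tm.symm.e2_nU hy.1 hy.2⟩,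
    h.ti', h.ti, fun y hy h1 => or_left_comm.1 (h.gs y ⟨hy.2, hy.1⟩ h1)⟩

theorem ti_cj {V : Subgroup G} (h : ∀ k ∈ 𝐍[V], ∀ x ∈ 𝐍[B], x ∈ cj(k, B) → x ∈ B) (g : G) :
    ∀ k ∈ 𝐍[cj(g, V)], ∀ x ∈ 𝐍[cj(g, B)], x ∈ cj(k, cj(g, B)) → x ∈ cj(g, B) := by
  intro k hk x hx e
  rw [normalizer_cj, mem_cj] at hk hx
  rw [mem_cj, mem_cj] at e
  rw [mem_cj]
  refine h _ hk _ hx (mem_cj.2 ?_)
  convert e using 1
  group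

theorem cj (h : S2 B U U') (g : G) : S2 cj(g, B) cj(g, U) cj(g, U') := by
  have hm : ∀ x y : G, g⁻¹ * x * g * (g⁻¹ * y * g) = g⁻¹ * (x * y) * g := fun x y => by group
  refine ⟨h.tm.cj g, by rw [card_cj, card_cj, h.card], by rw [card_cj]; exact h.big,
    by rw [← cj_inf, card_cj]; exact h.big', fun A hA h1 h2 => ?_, fun x hx y hy a b ⟨k, c⟩ d e => ?_,
    ti_cj h.ti g, ti_cj h.ti' g, fun y hy h1 => ?_⟩
  · rw [normalizer_cj, le_cj_iff] at hA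
    rw [card_cj] at h2
    refine (h.j1 _ hA ?_ (by rwa [card_cj])).imp (fun e => ?_) fun e => ?_
    · rintro _ ⟨a, ha, rfl⟩
      rw [← map_mul, h1 a ha, map_one]
    · rw [← e, cj_cj_inv]
    · rw [← e, cj_cj_inv]
  · rw [normalizer_cj, normalizer_cj, ← cj_inf] at hx hy
    rw [mem_cj] at hx hy a b d e ⊢
    rw [← hm] at a b ⊢
    refine h.r2 _ hx _ hy a b ⟨k, ?_⟩ d e
    rw [hm, show g⁻¹ * (x * y) * g = g⁻¹ * (x * y) * g⁻¹⁻¹ by rw [inv_inv], conj_pow, c]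
    simp
  · rw [← cj_inf] at hy
    obtain ⟨z, hz, rfl⟩ := mem_cj_iff_exists.1 hy
    rw [centralizer_zpowers, centralizer_singleton_conj, ← centralizer_zpowers, normalizer_cj,
      normalizer_cj, normalizer_cj, cj_le_cj_iff, cj_le_cj_iff, cj_le_cj_iff]
    exact h.gs z hz fun e => h1 (by rw [e]; simp)

theorem le_B (h : S2 B U U') (hN : Y ≤ 𝐍[B]) (hY : ∀ a ∈ Y, a * a = 1)
    (hc : Nat.card U ≤ Nat.card Y) : Y ≤ B :=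
  (h.j1 Y hN hY hc).elim (fun e => e ▸ h.tm.leA) fun e => e ▸ h.tm.leB

theorem le_of (h : S2 B U U') (h₁ : S2 B₁ Y Y')
    (hc : Nat.card Y = Nat.card U) (hN : B₁ ≤ 𝐍[B]) : B₁ ≤ B := by
  rw [← h₁.tm.sup_eq]
  exact sup_le (h.le_B (h₁.tm.leA.trans hN) h₁.tm.sqA hc.ge)
    (h.le_B (h₁.tm.leB.trans hN) h₁.tm.sqB (h₁.card ▸ hc.ge))

variable [Finite G]

/-- A conjugate of `B` normalizing `B` is `B`. -/
theorem mem_of_cj (h : S2 B U U') {g : G} (e : cj(g, B) ≤ 𝐍[B]) : g ∈ 𝐍[B] :=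
  mem_normalizer_of_cj_le (h.le_of (h.cj g) (card_cj _ _) e)

theorem wc (h : S2 B U U') : WC.IsWC 2 B := by
  have key : ∀ R : Subgroup G, B ≤ R → R ≤ 𝐍[B] → 𝐍[R] ≤ 𝐍[B] := fun R h1 h2 g hg =>
    h.mem_of_cj ((cj_le_of_mem_normalizer h1 hg).trans h2)
  refine WC.isWC_of_normalizer_le h.tm.e2_pg fun R hR h1 => key R h1 (inf_eq_left.1 ?_)
  exact eq_of_inf_normalizer_le hR inf_le_left fun x hx =>
    ⟨hx.1, key _ (le_inf h1 le_normalizer) inf_le_right hx.2⟩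

theorem idx2 (h : S2 B U U') {A : Subgroup G} (hA : A ≤ 𝐍[B] ⊓ 𝐍[U]) (hs : ∀ a ∈ A, a * a = 1) :
    Nat.card A ≤ 2 * Nat.card ↥(A ⊓ B) :=
  e2_two fun x hx y hy => h.r2 x (hA hx) y (hA hy) (hs x hx ▸ one_mem _) (hs y hy ▸ one_mem _)
    ⟨1, by rw [pow_one, sq, hs _ (mul_mem hx hy)]⟩

theorem idx4 (h : S2 B U U') {A : Subgroup G} (hA : A ≤ 𝐍[B]) (hs : ∀ a ∈ A, a * a = 1) :
    Nat.card A ≤ 4 * Nat.card ↥(A ⊓ B) := by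
  have h1 := h.tm.e2_idx hA
  have h2 := h.idx2 (A := A ⊓ 𝐍[U]) (inf_le_inf_right _ hA) fun a ha => hs a ha.1
  have h3 : Nat.card ↥(A ⊓ 𝐍[U] ⊓ B) ≤ Nat.card ↥(A ⊓ B) :=
    card_le_of_le (inf_le_inf_right _ inf_le_left)
  omega

theorem triple (h : S2 B U U') {P : Subgroup G} (hP : IsPGroup 2 P) (hYP : Y ≤ P)
    (hY : ∀ a ∈ Y, a * a = 1) (hc : Nat.card U ≤ Nat.card Y) :
    ∃ B₁ Y', S2 B₁ Y Y' ∧ P ≤ 𝐍[B₁] := by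
  obtain ⟨c, -, e⟩ := h.wc.exists_cj_le le_top hP le_top
  rw [cj_le_iff, ← normalizer_cj] at e
  rcases (h.cj c⁻¹).j1 Y (hYP.trans e) hY (by rwa [card_cj]) with k | k
  · exact ⟨_, _, k ▸ h.cj c⁻¹, e⟩
  · exact ⟨_, _, k ▸ (h.cj c⁻¹).symm, e⟩

theorem key1 (h : S2 B U U') {x y : G} (hy : y ∈ U ⊓ U') (h1 : y ≠ 1) (hx : x ∈ 𝐍[B])
    (hU : x ∉ 𝐍[U]) (e : x * y = y * x) : 𝐂[zpowers y] ≤ 𝐍[B] := by
  have k : x ∈ 𝐂[zpowers y] := e2_mc.2 e.symm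
  rcases h.gs y hy h1 with a | a | a
  exacts [absurd (a k) hU, absurd (h.tm.symm.e2_nU hx (a k)) hU, a]

theorem key (h : S2 B U U') {x y : G} (hy : y ∈ U ⊓ U') (h1 : y ≠ 1) (hx : x ∈ 𝐍[B])
    (hU : x ∉ 𝐍[U]) (e : x * y = y * x) (hY : ∀ a ∈ Y, a * a = 1)
    (hc : Nat.card U ≤ Nat.card Y) (hyY : y ∈ Y) : x ∉ 𝐍[Y] := by
  rcases h.j1 Y ((e2_le_cent hY hyY).trans (h.key1 hy h1 hx hU e)) hY hc with rfl | rfl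
  exacts [hU, fun k => hU (h.tm.symm.e2_nU hx k)]

theorem key3 (h : S2 B U U') {x y : G} (hy : y ∈ U ⊓ U') (h1 : y ≠ 1) (hx : x ∈ 𝐍[B])
    (hU : x ∉ 𝐍[U]) (e : x * y = y * x) (hY : ∀ a ∈ Y, a * a = 1)
    (hc : Nat.card U ≤ Nat.card Y) (hxY : x ∈ Y) (hyY : y ∈ 𝐍[Y]) : False := by
  have a1 := e2_sq hY hyY (h.tm.sqA y hy.1)
  have a2 := h.idx4 (A := Y ⊓ 𝐂[zpowers y]) (inf_le_right.trans (h.key1 hy h1 hx hU e))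
    fun a ha => hY a ha.1
  have a3 := h.big
  have a5 : 4 < Nat.card ↥(Y ⊓ 𝐂[zpowers y]) := by
    by_contra k
    have := Nat.pow_le_pow_left (not_lt.1 k) 2
    omega
  obtain ⟨z, hz, z1⟩ := e2_ex (A := Y ⊓ 𝐂[zpowers y] ⊓ B) (by omega)
  have e' := CL2.comm_of_sq hY hxY hz.1.1
  exact h.key (h.tm.e2_fix hx hU hz.2 (hY z hz.1.1) e') z1 hx hU e' hY hc hz.1.1 (le_normalizer hxY)

theorem three (h : S2 B U U') (hx : x ∈ 𝐍[B]) (h2 : x * x = 1) :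
    2 < Nat.card ↥(U ⊓ U' ⊓ 𝐂[zpowers x]) := by
  have a1 := e2_sq (V := U ⊓ U') (fun v hv => h.tm.sqA v hv.1) (h.tm.e2_nZ hx) h2
  have a2 := h.big'
  by_contra k
  have := Nat.pow_le_pow_left (not_lt.1 k) 2
  omega

theorem closed_c (h : S2 B U U') {W : Subgroup G} (hW : ∀ a ∈ W, a * a = 1)
    (hc : Nat.card U ≤ Nat.card W) (hx : x ∈ 𝐍[B]) (hxW : x ∈ W) {y : G} (hy : y ∈ U ⊓ U')
    (hN : 𝐂[zpowers y] ≤ 𝐍[U]) (hyW : y ∈ W) : x ∈ B := by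
  obtain ⟨k, hk, e⟩ := h.wc.exists_cj_le (H := 𝐂[zpowers y])
    (fun b hb => e2_mc.2 (h.tm.z_comm hy.1 hy.2 hb).symm) (CL2.pgrp_of_sq hW) (e2_le_cent hW hyW)
  have e' := h.le_B e (by
    rintro _ ⟨a, ha, rfl⟩
    rw [← map_mul, hW a ha, map_one]) (by rwa [card_cj])
  exact h.ti _ (inv_mem (hN hk)) x hx (cj_le_iff.1 e' hxW)

theorem closed_inv0 (h : S2 B U U') (h₁ : S2 B₁ Y Y') (hc : Nat.card Y = Nat.card U)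
    (hx : x ∈ 𝐍[B]) (hY : x ∈ Y) (hZ : U ⊓ U' ⊓ 𝐂[zpowers x] ≤ 𝐍[B₁]) : x ∈ B := by
  have h2 := h₁.tm.sqA x hY
  have a1 := h.three hx h2
  by_contra hB
  have x1 : x ≠ 1 := fun e => hB (e ▸ one_mem _)
  by_cases hU : x ∈ 𝐍[U]
  swap
  · have a2 := h₁.tm.e2_idx hZ
    obtain ⟨y, hy, y1⟩ := e2_ex (A := U ⊓ U' ⊓ 𝐂[zpowers x] ⊓ 𝐍[Y]) (by omega)
    exact h.key3 hy.1.1 y1 hx hU (e2_mc.1 hy.1.2) h₁.tm.sqA hc.ge hY hy.2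
  by_cases hn : U ⊓ U' ⊓ 𝐂[zpowers x] ≤ 𝐍[Y]
  swap
  · obtain ⟨r, hr, rY⟩ := SetLike.not_le_iff_exists.1 hn
    have e := (e2_mc.1 hr.2).symm
    exact h₁.key3 (h₁.tm.e2_fix (hZ hr) rY (h₁.tm.leA hY) h2 e) x1 (hZ hr) rY e h.tm.sqA hc.le
      hr.1.1 hU
  have a2 := h₁.idx2 (le_inf hZ hn) fun a ha => h.tm.sqA a ha.1.1
  obtain ⟨y, hy, y1⟩ := e2_ex (A := U ⊓ U' ⊓ 𝐂[zpowers x] ⊓ B₁) (by omega)
  obtain ⟨W, hW, hc', xW, yW⟩ : ∃ W : Subgroup G, (∀ a ∈ W, a * a = 1) ∧ Nat.card U ≤ Nat.card W ∧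
      x ∈ W ∧ y ∈ W := by
    by_cases k : y ∈ Y
    · exact ⟨Y, h₁.tm.sqA, hc.ge, hY, k⟩
    have k' := (h₁.tm.inv y hy.2 (h.tm.sqA y hy.1.1.1)).resolve_left k
    exact ⟨Y', h₁.tm.sqB, h₁.card ▸ hc.ge,
      (h₁.tm.nc hY k' (e2_mc.1 hy.1.2)).resolve_right k, k'⟩
  rcases h.gs y hy.1.1 y1 with a | a | a
  · exact hB (h.closed_c hW hc' hx xW hy.1.1 a yW)
  · exact hB (h.symm.closed_c hW (h.card ▸ hc') hx xW ⟨hy.1.1.2, hy.1.1.1⟩ a yW)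
  · exact hB (h.le_B ((e2_le_cent hW yW).trans a) hW hc' xW)

theorem closed_inv1 (h : S2 B U U') (hY : ∀ a ∈ Y, a * a = 1) (hc : Nat.card Y = Nat.card U)
    (hx : x ∈ 𝐍[B]) (hxY : x ∈ Y) : x ∈ B := by
  obtain ⟨P, hP, hZ⟩ := exists_isSyl_ge (R := U ⊓ U' ⊓ 𝐂[zpowers x]) (L := 𝐂[zpowers x])
    (CL2.pgrp_of_sq fun a ha => h.tm.sqA a ha.1.1) inf_le_right
  obtain ⟨c, hc', e⟩ := hP.exists_cj_le (CL2.pgrp_of_sq hY) (e2_le_cent hY hxY)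
  obtain ⟨B₁, Y', h₁, hN⟩ := h.triple hP.pgrp e (by
    rintro _ ⟨a, ha, rfl⟩
    rw [← map_mul, hY a ha, map_one]) (by rw [card_cj, hc])
  refine h.closed_inv0 h₁ (by rw [card_cj, hc]) hx ?_ (hZ.trans hN)
  have := conj_mem_cj c hxY
  rwa [← e2_mc.1 hc', mul_inv_cancel_right] at this

/-- An involution of `N(B)` conjugate into `B` lies in `B`. -/
theorem closed (h : S2 B U U') {g : G} (hx : x ∈ 𝐍[B]) (hg : x ∈ cj(g, B)) (h2 : x * x = 1) :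
    x ∈ B :=
  ((h.cj g).tm.inv x hg h2).elim (h.closed_inv1 (h.cj g).tm.sqA (card_cj _ _) hx)
    (h.closed_inv1 (h.cj g).tm.sqB ((card_cj _ _).trans h.card.symm) hx)

theorem closed' (h : S2 B U U') {g b : G} (hb : b ∈ B) (h2 : b * b = 1)
    (hx : g * b * g⁻¹ ∈ 𝐍[B]) : g * b * g⁻¹ ∈ B :=
  h.closed hx (conj_mem_cj g hb) (by
    rw [show g * b * g⁻¹ * (g * b * g⁻¹) = g * (b * b) * g⁻¹ by group, h2, mul_one, mul_inv_cancel])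

theorem le_nB (h : S2 B U U') {P : Subgroup G} (hP : IsPGroup 2 P) (hB : B ≤ P) : P ≤ 𝐍[B] := by
  refine inf_eq_left.1 (eq_of_inf_normalizer_le hP inf_le_left fun x hx => ⟨hx.1, ?_⟩)
  exact h.mem_of_cj ((cj_le_of_mem_normalizer (le_inf hB le_normalizer) hx.2).trans inf_le_right)

end S2

end Cfsg.Agent.PLocal.Bk.APU
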