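import Cfsg.Agent.APU.S2
import Cfsg.Agent.PLocal.PIrred

/-!
One side `K` (an `L₂(q)`-block with Sylow subgroup `B = U U'`) of the configuration.
-/

set_option autoImplicit false
set_option linter.unusedSectionVars false

namespace Cfsg.Agent.PLocal.Bk.APU

open Subgroup Cfsg Cfsg.Agent.PLocal.Amb
open Cfsg.Agent.CL2 (TM)

variable {G : Type*} [Group G] [Finite G]

theorem ex_inv {V : Subgroup G} (hV : IsPGroup 2 V) (h : V ≠ ⊥) : ∃ v ∈ V, v ≠ 1 ∧ v * v = 1 := by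
  obtain ⟨n, hn⟩ := IsPGroup.iff_card.1 hV
  have h2 : 2 ∣ Nat.card V := by
    rw [hn]
    refine dvd_pow_self 2 fun e => h ?_
    rwa [e, pow_zero, card_eq_one] at hn
  obtain ⟨v, hv⟩ := exists_prime_orderOf_dvd_card' 2 h2
  refine ⟨v, v.2, fun e => ?_, ?_⟩
  · rw [show v = 1 from Subtype.ext e, orderOf_one] at hv; omega
  · have := pow_orderOf_eq_one v
    rw [hv, sq] at this
    exact congrArg Subtype.val this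

theorem ex_odd (n : G) : ∃ m : ℕ, Odd m ∧ ∃ j, (n ^ m) ^ 2 ^ j = 1 := by
  obtain ⟨j, m, hm, h⟩ := Nat.exists_eq_two_pow_mul_odd (orderOf_pos n).ne'
  exact ⟨m, hm, j, by rw [← pow_mul, mul_comm, ← h, pow_orderOf_eq_one]⟩

theorem odd_pow_not_mem {N : Subgroup G} {k : G} (h1 : k ∉ N) (h2 : k * k ∈ N) {m : ℕ}
    (hm : Odd m) : k ^ m ∉ N := fun e => by
  obtain ⟨j, rfl⟩ := hm
  rw [pow_succ, pow_mul, sq] at e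
  exact h1 ((mul_mem_cancel_left (N.pow_mem h2 j)).1 e)

/-- A `2`-element normalizing a group of even order centralizes one of its involutions. -/
theorem ex_inv_comm {A : Subgroup G} {f n : G} (hf : f * f = 1) (hA : f ∈ 𝐍[A]) (hn : n ∈ A)
    (h1 : n ≠ 1) (h2 : n * n = 1) : ∃ v ∈ A, v ≠ 1 ∧ v * v = 1 ∧ v ∈ 𝐂[zpowers f] := by
  obtain ⟨P, hP, hf'⟩ := exists_isSyl_ge (L := A ⊔ zpowers f) (CL2.pgrp_zpowers hf) le_sup_right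
  have hn' : A ⊔ zpowers f ≤ 𝐍[A] := sup_le le_normalizer (zpowers_le.2 hA)
  have hQ := hP.inf_of_le le_sup_left hn'
  have hne : P ⊓ A ≠ ⊥ := fun e => by
    obtain ⟨g, -, k⟩ := hQ.exists_cj_le (CL2.pgrp_zpowers h2) (zpowers_le.2 hn)
    rw [e, le_bot_iff, cj_eq_bot, zpowers_eq_bot] at k
    exact h1 k
  obtain ⟨v, hv, v1, v2⟩ := ex_inv (hQ.pgrp.to_le inf_le_left)
    (inf_centralizer_ne_bot (CL2.pgrp_zpowers hf) hQ.pgrp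
      (le_normalizer_inf (hf'.trans le_normalizer) (zpowers_le.2 hA)) hne)
  exact ⟨v, hv.1.2, v1, v2, hv.2⟩

/-- One side of the configuration. -/
structure Sd (B K U U' : Subgroup G) : Prop where
  tm : TM B U U'
  syl : IsSyl 2 B K
  nU : 𝐍[U] ≤ 𝐍[K]
  kU : K ≤ 𝐍[U]
  mx : ∀ X, B ≤ X → X ≤ K → X ≤ 𝐍[B] ∨ X = K
  nZ : ¬ K ≤ 𝐍[U ⊓ U']
  fpf : ∀ h ∈ K, h ∈ 𝐍[B] → h ∉ B → ∀ b ∈ B, h * b = b * h → b ∈ 𝐂[K]
  bru : ∃ s ∈ K, s ∉ 𝐍[B] ∧ s * s ∈ 𝐍[B] ∧ ∀ k ∈ K, k ∉ 𝐍[B] → ∃ b ∈ B, (b * s)⁻¹ * k ∈ 𝐍[B]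
  car : ¬ K ⊓ 𝐍[B] ≤ B
  tr : ∀ z ∈ U ⊓ U', z ∉ 𝐂[K] → ∀ z' ∈ U ⊓ U', z' ∉ 𝐂[K] →
    ∃ h ∈ K, h ∈ 𝐍[B] ∧ h * z * h⁻¹ * z'⁻¹ ∈ 𝐂[K]
  fixZ : ∀ t ∈ 𝐍[B] ⊓ 𝐍[U], (∃ k, t ^ 2 ^ k = 1) →
    (∀ z ∈ U ⊓ U', t * z * t⁻¹ * z⁻¹ ∈ 𝐂[K]) → t ∈ B
  fixU : ∀ t ∈ 𝐍[B] ⊓ 𝐍[U], (∃ k, t ^ 2 ^ k = 1) → (∀ u ∈ U, t * u * t⁻¹ * u⁻¹ ∈ U') → t ∈ B
  comm : U ⊓ U' ≤ ⁅U, U'⁆
  idx : ∃ a ∈ U, ∃ b ∈ U, a ∉ U' ∧ b ∉ U' ∧ a * b ∉ U'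
  cU : U ⊓ 𝐂[K] ≤ U'
  bU : B ⊓ 𝐂[K] ≤ U
  cd : B ⊓ 𝐂[K] ≠ ⊥ → ∃ d ∈ B ⊓ 𝐂[K], d ≠ 1 ∧ 𝐂[zpowers d] ≤ 𝐍[U]

namespace Sd

variable {B K U U' : Subgroup G} (h : Sd B K U U')
include h

theorem mem_B {k : G} (hk : k ∈ K) (hn : k ∈ 𝐍[B]) (h2 : ∃ j, k ^ 2 ^ j = 1) : k ∈ B :=
  zpowers_le.1 (h.syl.le_of_normalizes (isPGroup_zpowers h2) (zpowers_le.2 hk) (zpowers_le.2 hn))

theorem mem_nB {g : G} (hg : g ∈ 𝐍[K]) (e : cj(g, B) ≤ 𝐍[B]) : g ∈ 𝐍[B] :=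
  mem_normalizer_of_cj_le (h.syl.le_of_normalizes (isPGroup_cj g h.syl.pgrp)
    (cj_le_of_mem_normalizer h.syl.le hg) e)

theorem ti {k : G} (hk : k ∈ 𝐍[U]) {x : G} (hx : x ∈ 𝐍[B]) (e : x ∈ cj(k, B)) : x ∈ B :=
  h.mem_B (cj_le_of_mem_normalizer h.syl.le (h.nU hk) e) hx
    (isPGroup_iff.1 (isPGroup_cj k h.syl.pgrp) x e)

theorem B_le_c {z : G} (hz : z ∈ U ⊓ U') : B ≤ 𝐂[zpowers z] :=
  fun _ hb => e2_mc.2 (h.tm.z_comm hz.1 hz.2 hb).symm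

theorem D_le : B ⊓ 𝐂[K] ≤ U ⊓ U' := fun _ hd => ⟨h.bU hd, h.cU ⟨h.bU hd, hd.2⟩⟩

theorem inf_le {z : G} (hz : z ∈ U ⊓ U') (hK : z ∉ 𝐂[K]) : K ⊓ 𝐂[zpowers z] ≤ 𝐍[B] :=
  (h.mx _ (le_inf h.syl.le (h.B_le_c hz)) inf_le_left).resolve_right fun e =>
    hK fun _ hk => (e2_mc.1 (e.ge hk).2).symm

theorem lz {z g : G} (hz : z ∈ U ⊓ U') (hK : z ∉ 𝐂[K]) (hg : g ∈ 𝐍[U]) (e : g ∈ 𝐂[zpowers z]) :
    g ∈ 𝐍[B] :=
  h.mem_nB (h.nU hg) ((le_inf (cj_le_of_mem_normalizer h.syl.le (h.nU hg))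
    (cj_le_of_mem (h.B_le_c hz) e)).trans (h.inf_le hz hK))

theorem cent_of {z n : G} (hz : z ∈ U ⊓ U') (hn : n ∈ K) (hB : n ∉ 𝐍[B])
    (e : n * z * n⁻¹ ∈ U ⊓ U') : z ∈ 𝐂[K] := by
  by_contra hK
  refine hB (inv_mem_iff.1 (h.mem_nB (inv_mem (le_normalizer hn)) (le_trans (le_inf
    (cj_le_of_mem h.syl.le (inv_mem hn)) ?_) (h.inf_le hz hK))))
  rw [cj_le_iff, inv_inv, centralizer_zpowers, ← centralizer_singleton_conj, ← centralizer_zpowers]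
  exact h.B_le_c e

theorem tiU {r n : G} (hr : r ∈ B) (hn : n ∈ K) (hB : n ∉ 𝐍[B]) (e : n * r * n⁻¹ ∈ B) : r ∈ U := by
  by_contra hU
  have e' : n * r * n⁻¹ ∉ U := fun k => hU ((mem_normalizer_iff.1 (h.kU hn) r).2 k)
  refine hB ((h.mx (K ⊓ 𝐍[U ⊓ U']) (le_inf h.syl.le (le_normalizer.trans h.tm.e2_nZ))
    inf_le_left).resolve_right (fun k => h.nZ (k.ge.trans inf_le_right)) ⟨hn, cj_eq_iff.1 ?_⟩)
  conv_lhs => rw [← h.tm.e2_cU hr hU]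
  rw [cj_inf, cj_of_mem_normalizer (h.kU hn), centralizer_zpowers, ← centralizer_singleton_conj,
    ← centralizer_zpowers, h.tm.e2_cU e e']

/-- A Sylow `p`-subgroup of `N_K(B) Y` is normalized by an involution of `K`. -/
theorem exists_inv {p : ℕ} [Fact p.Prime] (hp : p ≠ 2) {Y : Subgroup G}
    (hY : IsSyl p Y (Y ⊔ (K ⊓ 𝐍[B]))) (h1 : Y ≤ 𝐍[B]) (h2 : Y ≤ 𝐍[K]) (h3 : B ⊓ 𝐍[Y] = ⊥) :
    ∃ n ∈ K ⊓ 𝐍[Y], n ≠ 1 ∧ n * n = 1 := by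
  obtain ⟨s, sK, sB, s2, bru⟩ := h.bru
  have l1 : B ⊔ Y ≤ 𝐍[B] := sup_le le_normalizer h1
  have l2 : B ⊔ Y ≤ 𝐍[K] := sup_le (h.syl.le.trans le_normalizer) h2
  obtain ⟨X, hX⟩ : ∃ X, X = (B ⊔ Y) ⊓ 𝐍[cj(s, B)] := ⟨_, rfl⟩
  have x1 : X ≤ B ⊔ Y := hX ▸ inf_le_left
  have dec : B ⊔ X = B ⊔ Y := by
    refine le_antisymm (sup_le le_sup_left x1) fun l hl => ?_
    obtain ⟨b, hb, e⟩ := bru (l * s * l⁻¹) (conj_mem_of_mem_normalizer (l2 hl) sK) fun k =>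
      sB ((mul_mem_cancel_left (l1 hl)).1 ((mul_mem_cancel_right (inv_mem (l1 hl))).1 k))
    have : b⁻¹ * l ∈ X := by
      rw [hX]
      refine ⟨mul_mem (mem_sup_left (inv_mem hb)) hl, cj_eq_iff.1 ?_⟩
      rw [← cj_mul,
        show b⁻¹ * l * s = s * ((b * s)⁻¹ * (l * s * l⁻¹) * l) by group, cj_mul,
        cj_of_mem_normalizer (mul_mem e (l1 hl))]
    rw [← mul_inv_cancel_left b l]
    exact mul_mem (mem_sup_left hb) (mem_sup_right this)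
  obtain ⟨Y2, hY2⟩ := exists_isSyl p X
  have hY2' : IsSyl p Y2 (B ⊔ Y) := by
    refine isSyl_of_not_dvd_relIndex hY2.pgrp (hY2.le.trans x1) fun k => ?_
    rw [← relIndex_mul_relIndex Y2 X (B ⊔ Y) hY2.le x1] at k
    rcases (Nat.Prime.dvd_mul Fact.out).1 k with k | k
    · exact hY2.not_dvd_relIndex k
    rw [← dec, CP.relIndex_sup_eq le_rfl (x1.trans l1)] at k
    obtain ⟨n, hn⟩ := IsPGroup.iff_card.1 h.syl.pgrp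
    have := k.trans (relIndex_dvd_card X B)
    rw [hn] at this
    exact hp ((Nat.prime_dvd_prime_iff_eq Fact.out Nat.prime_two).1
      ((Fact.out : p.Prime).dvd_of_dvd_pow this))
  obtain ⟨g, hg, e⟩ := (hY.mono le_sup_right (sup_le (le_sup_of_le_right
    (le_inf h.syl.le le_normalizer)) le_sup_left)).exists_cj_eq hY2'
  rw [← dec] at hg
  obtain ⟨b, hb, y, hy, rfl⟩ := (mem_sup_of_le_normalizer_left (x1.trans l1)).1 hg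
  obtain ⟨t, ht⟩ : ∃ t, t = b * s * b⁻¹ := ⟨_, rfl⟩
  have tK : t ∈ K := ht ▸ conj_mem_of_mem_normalizer (le_normalizer (h.syl.le hb)) sK
  have tB : t ∉ 𝐍[B] := fun k => sB ((mul_mem_cancel_left (le_normalizer hb)).1
    ((mul_mem_cancel_right (inv_mem (le_normalizer hb))).1 (ht ▸ k)))
  have t2 : t * t ∈ 𝐍[B] := by
    rw [ht, show b * s * b⁻¹ * (b * s * b⁻¹) = b * (s * s) * b⁻¹ by group]
    exact mul_mem (mul_mem (le_normalizer hb) s2) (inv_mem (le_normalizer hb))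
  have hY' : Y ≤ 𝐍[cj(t, B)] := by
    rw [← e, ht, cj_mul, cj_mul, cj_mul, cj_of_mem (inv_mem hb), normalizer_cj, cj_le_cj_iff]
    rw [hX] at hy hY2
    exact cj_le_of_mem (hY2.le.trans inf_le_right) hy.2
  have hS : IsSyl p Y ((Y ⊔ K) ⊓ 𝐍[B] ⊓ 𝐍[cj(t, B)]) :=
    hY.mono (le_inf (le_inf le_sup_left h1) hY')
      (inf_le_left.trans (sup_inf_of_le_normalizer h1 h2).le)
  obtain ⟨a, ha, n, hn, e'⟩ := hS.frattini (g := t) (by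
    rw [← cj_eq_iff, cj_inf, cj_inf, ← normalizer_cj, ← normalizer_cj, ← cj_mul,
      cj_of_mem_normalizer t2, cj_of_mem (mem_sup_right tK), inf_right_comm])
  have nK : n ∈ K ⊔ Y := by
    rw [sup_comm]
    exact (mul_mem_cancel_left (mem_inf.1 (mem_inf.1 ha).1).1).1 (e' ▸ mem_sup_right tK)
  obtain ⟨k, hk, y', hy', rfl⟩ := (mem_sup_of_le_normalizer_left h2).1 nK
  have kY : k ∈ 𝐍[Y] := (mul_mem_cancel_right (le_normalizer hy')).1 hn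
  have ek : k = a⁻¹ * t * y'⁻¹ := by rw [e']; group
  have c1 : cj(k, B) = cj(t, B) := by
    rw [ek, cj_mul, cj_mul, cj_of_mem_normalizer (inv_mem (h1 hy')),
      cj_of_mem_normalizer (inv_mem ha.2)]
  have c2 : cj(k, cj(t, B)) = B := by
    rw [ek, cj_mul, cj_mul, cj_of_mem_normalizer (inv_mem (hY' hy')), ← cj_mul t,
      cj_of_mem_normalizer t2, cj_of_mem_normalizer (inv_mem ha.1.2)]
  have kB : k ∉ 𝐍[B] := fun j => tB (cj_eq_iff.1 (c1.symm.trans (cj_eq_iff.2 j)))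
  have k2 : k * k ∈ 𝐍[B] := by rw [← cj_eq_iff, cj_mul, c1, c2]
  obtain ⟨m, hm, j, hj⟩ := ex_odd k
  refine ⟨k ^ m, mem_inf.2 ⟨K.pow_mem hk m, pow_mem kY m⟩, fun e => odd_pow_not_mem kB k2 hm (e ▸ one_mem _),
    mem_bot.1 (h3 ▸ mem_inf.2 ⟨h.mem_B (mul_mem (pow_mem hk m) (pow_mem hk m)) ?_ ⟨j, ?_⟩,
      mul_mem (pow_mem kY m) (pow_mem kY m)⟩)⟩
  · rw [← sq, ← pow_mul, mul_comm, pow_mul, sq]
    exact pow_mem k2 m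
  · rw [← sq, ← pow_mul, mul_comm, pow_mul, hj, one_pow]

end Sd

end Cfsg.Agent.PLocal.Bk.APU
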