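import Cfsg.Prelude.Def_Quasithin
import Cfsg.Agent.PLocal.CsDef
import Cfsg.Agent.PLocal.BkMainB
import Cfsg.Agent.PLocal.BkMainP
import Cfsg.Agent.PLocal.SL2Fpf3

/-!
The hypotheses of the pushing up theorem in ambient form; `K = O²(H)` is a block.
-/

set_option autoImplicit false
set_option linter.unusedSectionVars false

namespace Cfsg.Agent.PLocal.Bk.APU

open Subgroup Cfsg Cfsg.Agent.PLocal.Amb Cfsg.Agent.PLocal.TV Cfsg.Agent.PLocal.SL2Nat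
open Cfsg.Agent.PLocal.CP (IsCharP)
open Cfsg.Agent.Grp (SnIn)
open scoped commutatorElement MatrixGroups Cfsg.Agent.PLocal.CP

/-- The properties of `Z₃` and `L₂(2ⁿ)` which are used. -/
structure LP (L : Type*) [Group L] : Prop where
  simple : IsSimpleGroup L
  umax : ∀ S : Subgroup L, IsSyl 2 S ⊤ → ∃ Y : Subgroup L, Y ≠ ⊤ ∧ ∀ X, S ≤ X → X = ⊤ ∨ X ≤ Y
  four : ∀ g : L, g ^ 2 ^ 2 = 1 → g ^ 2 = 1

theorem lp_three : LP (Multiplicative (ZMod 3)) := by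
  have : Fact (Nat.Prime 3) := ⟨Nat.prime_three⟩
  have hs : IsSimpleGroup (Multiplicative (ZMod 3)) := isSimpleGroup_of_prime_card (p := 3) (by simp)
  exact ⟨hs, fun S _ => ⟨⊥, bot_ne_top, fun X _ =>
    (hs.eq_bot_or_eq_top_of_normal X inferInstance).symm.imp_right le_of_eq⟩, by decide⟩

theorem lp_sl {F : Type} [Field F] [Fintype F] [CharP F 2]
    (h : 𝐎[2, (⊤ : Subgroup SL(2, F))] = ⊤) : LP SL(2, F) := by
  have h2 : ∃ s : F, s ≠ 0 ∧ s ≠ 1 := by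
    by_contra hc
    have e : Nat.card F = 2 := by
      rw [Nat.card_eq_two_iff' (0 : F)]
      exact ⟨1, one_ne_zero, fun y hy => by_contra fun k => hc ⟨y, hy, k⟩⟩
    obtain ⟨e, he⟩ := exists_congr_two e
    have c := congrArg (fun X : Subgroup _ => Nat.card X) he
    simp only [ALi, SLi] at c
    rw [card_map_of_injective _ (GA.congr_bijective e).1, card_map_of_injective _ (slG_injective F),
      card_map_of_injective _ (pmG_injective (by simp)), ← PL.pRes_top' 2, h, card_top,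
      Nat.card_eq_fintype_card (α := alternatingGroup _), card_alternatingGroup] at c
    have k := orderOf_dvd_natCard (uu (1 : F))
    rw [c, orderOf_eq_prime (p := 2) (by rw [sq, ← uu_add, CharTwo.add_self_eq_zero, uu_zero])
      fun e => one_ne_zero (congrArg (fun g : SL(2, F) => g.1 0 1) e)] at k
    revert k
    decide
  obtain ⟨s, s0, s1⟩ := h2
  refine ⟨isSimpleGroup_of_ne s0 s1, fun S hS => ?_, fun g => MP.sq_eq_one_of_two⟩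
  have h3 := hS.map (slG F)
  rw [PL.map_top] at h3
  obtain ⟨g, hg, e⟩ := (isSyl_Ui (F := F) 2).exists_cj_eq h3
  refine ⟨(cj(g⁻¹, 𝐍[Ui F])).comap (slG F), fun k => ?_, fun X hX => ?_⟩
  · obtain ⟨a, rfl⟩ := hg
    have : a⁻¹ * nn (1 : F) one_ne_zero * a ∈ (cj((slG F a)⁻¹, 𝐍[Ui F])).comap (slG F) :=
      k ▸ mem_top _
    rw [mem_comap, mem_cj, ← map_inv, ← map_inv, ← map_mul, ← map_mul, inv_inv,
      show a * (a⁻¹ * nn (1 : F) one_ne_zero * a) * a⁻¹ = nn 1 one_ne_zero by group,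
      PL.slG_mem_normalizer] at this
    simp [coe_nn] at this
  · rcases le_normalizer_Ui_or (X := cj(g, X.map (slG F))) (e ▸ cj_mono g (map_mono hX))
      (cj_le_of_mem (map_le_range _ _) hg) with k | k
    · exact Or.inr (map_le_iff_le_comap.1 (cj_le_iff.1 k))
    · refine Or.inl (map_injective (slG_injective F) ?_)
      rw [PL.map_top, ← cj_inj (g := g), k, cj_of_mem hg]

variable {G : Type*} [Group G] [Finite G]

/-- The hypotheses, for `H = K T`. -/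
structure Hy (K T : Subgroup G) : Prop where
  lc : LC G
  syl : IsSyl 2 T (K ⊔ T)
  res : 𝐎[2, K] = K
  nK : T ≤ 𝐍[K]
  simp : ∀ N, pCoreOf 2 K ≤ N → N < K → K ≤ 𝐍[N] → N ≤ pCoreOf 2 K
  umax : ∃ Y, ¬ K ≤ Y ∧ ∀ X, T ≤ X → X ≤ K ⊔ T → K ≤ X ∨ X ≤ Y
  four : ∀ k ∈ K, k ^ 2 ^ 2 ∈ pCoreOf 2 K → k ^ 2 ∈ pCoreOf 2 K
  hsyl : ∀ S : Subgroup G, IsPGroup 2 S → pCoreOf 2 (K ⊔ T) ≤ S → S ≤ 𝐍[K] → ⁅S, K⁆ ≤ pCoreOf 2 K →
    S = pCoreOf 2 (K ⊔ T)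
  uniq : ∀ R : Subgroup G, IsPGroup 2 R → R ≠ ⊥ → K ≤ 𝐍[R] → T ≤ 𝐍[R] → 𝐍[R] ≤ 𝐍[K]
  loc : ∃ R : Subgroup G, IsPGroup 2 R ∧ R ≠ ⊥ ∧ 𝐍[K] = 𝐍[R]

theorem lp_amb {K T : Subgroup G} {L : Type*} [Group L] [Finite L] (lp : LP L)
    (e : K ⧸ pCore 2 K ≃* L) (syl : IsSyl 2 T (K ⊔ T)) (res : 𝐎[2, K] = K) (nK : T ≤ 𝐍[K]) :
    (∀ N, pCoreOf 2 K ≤ N → N < K → K ≤ 𝐍[N] → N ≤ pCoreOf 2 K) ∧
    (∃ Y, ¬ K ≤ Y ∧ ∀ X, T ≤ X → X ≤ K ⊔ T → K ≤ X ∨ X ≤ Y) ∧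
    ∀ k ∈ K, k ^ 2 ^ 2 ∈ pCoreOf 2 K → k ^ 2 ∈ pCoreOf 2 K := by
  obtain ⟨φ, hs, hk⟩ : ∃ φ : K →* L, Function.Surjective φ ∧
      ∀ k : K, φ k = 1 ↔ (k : G) ∈ pCoreOf 2 K :=
    ⟨e.toMonoidHom.comp (QuotientGroup.mk' _), e.surjective.comp (QuotientGroup.mk'_surjective _),
      fun k => by simp [CP.mem_pCoreOf]⟩
  have top : ∀ N : Subgroup G, pCoreOf 2 K ≤ N → (N.subgroupOf K).map φ = ⊤ → K ≤ N :=
    fun N h1 h2 k hk' => by
      obtain ⟨n, hn, e'⟩ : φ ⟨k, hk'⟩ ∈ (N.subgroupOf K).map φ := h2 ▸ mem_top _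
      have := h1 ((hk (n⁻¹ * ⟨k, hk'⟩)).1 (by rw [map_mul, map_inv, e', inv_mul_cancel]))
      exact (mul_mem_cancel_left (inv_mem hn)).1 this
  refine ⟨fun N h1 h2 h3 => ?_, ?_, fun k hk' h => ?_⟩
  · have := normal_subgroupOf' h3
    rcases lp.simple.eq_bot_or_eq_top_of_normal ((N.subgroupOf K).map φ) (this.map φ hs) with k | k
    · exact fun n hn => (hk ⟨n, h2.le hn⟩).1 (mem_bot.1 (k ▸ mem_map_of_mem φ hn))
    · exact absurd (top N h1 k) h2.not_ge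
  · have hn : K ⊔ T ≤ 𝐍[K] := sup_le le_normalizer nK
    have h1 := syl.inf_of_le le_sup_left hn
    obtain ⟨P, hP⟩ := h1.exists_sylow
    have h2 := (isSyl_top P).map φ
    rw [hP, ← MonoidHom.range_eq_map, MonoidHom.range_eq_top.2 hs] at h2
    obtain ⟨Y, hY, hX⟩ := lp.umax _ h2
    have hQ : pCoreOf 2 K ≤ T := h1.pCoreOf_le.trans inf_le_left
    obtain ⟨A, hA⟩ : ∃ A, A = ⨆ X ∈ {X | T ≤ X ∧ ¬ K ≤ X}, K ⊓ X := ⟨_, rfl⟩
    have a1 : T ≤ 𝐍[A] := le_normalizer_iff_cj.2 fun t ht => by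
      rw [hA, cj_iSup]
      refine iSup_mono fun X => ?_
      rw [cj_iSup]
      exact iSup_mono fun k => (cj_of_mem_normalizer
        (le_normalizer_inf nK (k.1.trans le_normalizer) ht)).le
    have a2 : A ≤ (Y.comap φ).map K.subtype := by
      rw [hA]
      refine iSup₂_le fun X k g hg => ⟨⟨g, hg.1⟩, ?_, rfl⟩
      exact (hX ((X.subgroupOf K).map φ) (map_mono fun a ha => k.1 ha.1)).resolve_left
        (fun j => k.2 (top X (hQ.trans k.1) j)) (mem_map_of_mem φ hg.2)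
    refine ⟨A ⊔ T, fun k => hY (eq_top_iff.2 fun l _ => ?_), fun X x1 x2 => ?_⟩
    · obtain ⟨g, rfl⟩ := hs l
      exact mem_map_subtype.1 (a2 (pRes_sup_le syl.pgrp a1 (pRes_mono k (res.ge g.2))))
    · refine or_iff_not_imp_left.2 fun k => ?_
      rw [← inf_eq_right.2 x2, sup_comm K, sup_inf_of_le_normalizer x1 nK, sup_comm, hA]
      exact sup_le_sup_right (le_iSup₂ (f := fun X (_ : X ∈ {X | T ≤ X ∧ ¬ K ≤ X}) => K ⊓ X)
        X ⟨x1, k⟩) T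
  · have h1 := (hk (⟨k, hk'⟩ ^ 2 ^ 2)).2 h
    rw [map_pow] at h1
    have h2 := lp.four _ h1
    rw [← map_pow] at h2
    exact (hk _).1 h2

theorem hy_of (hG : IsCharacteristicTwoType G) {H T K : Subgroup G} (hT : IsSyl 2 T H)
    (hK : 𝐎[2, H] = K)
    (hstar : Nonempty (↥K ⧸ pCore 2 ↥K ≃* Multiplicative (ZMod 3)) ∨
      ∃ n : ℕ, 1 ≤ n ∧ Nonempty (↥K ⧸ pCore 2 ↥K ≃* SL(2, GaloisField 2 n)))
    (hsyl : ∀ S : Subgroup G, IsPGroup 2 S → pCoreOf 2 H ≤ S → S ≤ 𝐍[K] →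
      (∀ s ∈ S, ∀ k ∈ K, s * k * s⁻¹ * k⁻¹ ∈ pCoreOf 2 K) → S = pCoreOf 2 H)
    (huniq : maxTwoLocalsContaining H = {𝐍[K]}) : Hy K T := by
  have e := hT.pRes_sup
  have nK := hT.le.trans (le_normalizer_pRes 2 H)
  have res := pRes_pRes 2 H
  rw [hK] at e nK res
  have syl : IsSyl 2 T (K ⊔ T) := e.symm ▸ hT
  obtain ⟨a, b, c⟩ : (∀ N, pCoreOf 2 K ≤ N → N < K → K ≤ 𝐍[N] → N ≤ pCoreOf 2 K) ∧
    (∃ Y, ¬ K ≤ Y ∧ ∀ X, T ≤ X → X ≤ K ⊔ T → K ≤ X ∨ X ≤ Y) ∧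
    ∀ k ∈ K, k ^ 2 ^ 2 ∈ pCoreOf 2 K → k ^ 2 ∈ pCoreOf 2 K := by
    rcases hstar with ⟨⟨f⟩⟩ | ⟨n, -, ⟨f⟩⟩
    · exact lp_amb lp_three f syl res nK
    · have := Fintype.ofFinite (GaloisField 2 n)
      refine lp_amb (lp_sl ?_) f syl res nK
      have k := map_pRes (p := 2) (f.toMonoidHom.comp (QuotientGroup.mk' _)) ⊤
      have k' : 𝐎[2, (⊤ : Subgroup K)] = ⊤ := by
        rw [pRes_top, ← pRes_subgroupOf, res, subgroupOf_self]
      rw [k', ← MonoidHom.range_eq_map,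
        MonoidHom.range_eq_top.2 (f.surjective.comp (QuotientGroup.mk'_surjective _))] at k
      exact k.symm
  have hM : 𝐍[K] ∈ maxTwoLocalsContaining H := huniq ▸ rfl
  refine ⟨fun R h1 h2 => CP.isCharP_iff.2 (hG.2 R h1 h2), syl, res, nK, a, b, c,
    fun S h1 h2 h3 h4 => ?_, fun R h1 h2 h3 h4 => ?_, hM.1.1⟩
  · rw [e] at h2 ⊢
    exact hsyl S h1 h2 h3 fun s hs k hk => h4 (commutator_mem_commutator hs hk)
  · obtain ⟨M, hM1, hM2⟩ := Finite.exists_le_maximal (p := IsTwoLocal) (a := 𝐍[R]) ⟨R, h1, h2, rfl⟩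
    have : M ∈ maxTwoLocalsContaining H := ⟨⟨hM2.1, fun N n1 n2 => (hM2.eq_of_le n1 n2).symm⟩,
      (e ▸ sup_le h3 h4 : H ≤ _).trans hM1⟩
    rw [huniq] at this
    exact this ▸ hM1

namespace Hy

variable {K T : Subgroup G} (h : Hy K T)
include h

theorem charM : IsCharP 2 𝐍[K] := by
  obtain ⟨R, h1, h2, e⟩ := h.loc
  exact e ▸ h.lc R h1 h2

theorem H_le : K ⊔ T ≤ 𝐍[K] := sup_le le_normalizer h.nK

theorem comm_le {X : Subgroup G} (hX : IsPGroup 2 X) (h1 : X ≤ 𝐍[K]) (h2 : K ≤ 𝐍[X]) :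
    ⁅X, K⁆ ≤ pCoreOf 2 K :=
  le_pCoreOf (hX.to_le (r1_comm_le_left h2)) (r1_comm_le_right h1)
    (le_normalizer_commutator h2 le_normalizer)

theorem coreM_le : pCoreOf 2 𝐍[K] ≤ pCoreOf 2 (K ⊔ T) := by
  have h1 := (pCoreOf_le 2 _).trans h.H_le
  have h2 := h1.trans (le_normalizer_pCoreOf 2 _)
  have h3 := isPGroup_sup (isPGroup_pCoreOf 2 _) (isPGroup_pCoreOf 2 _) h2
  have h4 := sup_le h1 (pCoreOf_le 2 _)
  exact le_sup_right.trans (h.hsyl _ h3 le_sup_left h4 (h.comm_le h3 h4 (le_normalizer_sup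
    (le_sup_left.trans (le_normalizer_pCoreOf 2 _))
    (le_normalizer.trans (le_normalizer_pCoreOf 2 _))))).le

theorem cent_le {g : G} (hg : g ∈ 𝐍[K]) (hc : g ∈ 𝐂[pCoreOf 2 (K ⊔ T)]) : g ∈ pCoreOf 2 (K ⊔ T) :=
  h.coreM_le (h.charM ⟨hg, centralizer_anti h.coreM_le hc⟩)

theorem charH : IsCharP 2 (K ⊔ T) := fun _ hg => h.cent_le (h.H_le hg.1) hg.2

theorem coreM_ne : pCoreOf 2 𝐍[K] ≠ ⊥ := by
  obtain ⟨R, h1, h2, e⟩ := h.loc
  exact fun k => h2 (eq_bot_iff.2 (k ▸ le_pCoreOf h1 (e ▸ le_normalizer) e.le))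

theorem blk {x : G} (hx : x ∈ 𝐍[T]) (hK : x ∉ 𝐍[K]) : Blk 2 𝐁[2, T] K := by
  obtain ⟨Y, hY, hX⟩ := h.umax
  obtain ⟨P, hP⟩ := h.syl.exists_sylow_map
  have hT := isSyl_top P
  have hG : 𝐂[pCore 2 ↥(K ⊔ T)] ≤ pCore 2 ↥(K ⊔ T) := CP.isCharP_iff.1 h.charH
  have inj := (K ⊔ T).subtype_injective
  have hb : (P : Subgroup ↥(K ⊔ T)) ≠ ⊥ := fun e => h.coreM_ne (eq_bot_iff.2
    ((h.coreM_le.trans h.syl.pCoreOf_le).trans (hP.ge.trans (by rw [e, Subgroup.map_bot]))))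
  have hle : cStarOf 2 (P : Subgroup ↥(K ⊔ T)) ≤ Y.subgroupOf (K ⊔ T) := by
    refine BlockTr.cStarOf_le hT.pgrp hb fun C hC => ?_
    have c : Ch T (C.map (K ⊔ T).subtype) := by
      have := (ch_map_iff inj).2 ⟨hC.1, hC.2.2⟩
      rwa [hP] at this
    have c1 := le_normalizer.trans c.normalizer_le
    rw [normalizer_eq_subgroupOf]
    rcases hX ((K ⊔ T) ⊓ 𝐍[C.map (K ⊔ T).subtype]) (le_inf le_sup_right c1) inf_le_left with k | k
    · exact absurd (h.uniq _ (h.syl.pgrp.to_le c.le) (by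
        rw [Ne, map_eq_bot_iff_of_injective _ inj]; exact hC.2.1) (k.trans inf_le_right) c1
        (c.normalizer_le hx)) hK
    · exact fun g hg => k ⟨g.2, hg⟩
  have hne : Y.subgroupOf (K ⊔ T) ≠ ⊤ := fun e => hY (le_sup_left.trans (subgroupOf_eq_top.1 e))
  have ms := (ms_cStar hG hT fun e => hne (top_le_iff.1 (e ▸ hle))).mono hle
  obtain ⟨E, b, hE, s⟩ : (BB 2 𝐁[2, (P : Subgroup ↥(K ⊔ T))] (Y.subgroupOf (K ⊔ T))).Nonempty := by
    by_contra k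
    have := ms.sup_bb hT (baumann_le _)
    rw [Set.not_nonempty_iff_eq_empty.1 k, sSup_empty, sup_bot_eq] at this
    exact hne this
  have b' := (blk_map_iff inj).2 b
  rw [BlockTr.map_baumann _ inj, hP] at b'
  have s' := s.map (K ⊔ T).subtype
  rw [← MonoidHom.range_eq_map, range_subtype] at s'
  have nb : E.map (K ⊔ T).subtype ≠ ⊥ := fun e =>
    hE (((map_eq_bot_iff_of_injective _ inj).1 e).le.trans bot_le)
  generalize E.map (K ⊔ T).subtype = F at b' s' nb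
  have l : F ≤ K := b'.res.ge.trans ((pRes_mono s'.le).trans (pRes_sup_le h.syl.pgrp h.nK))
  have s2 := s'.mono l le_sup_left
  have e : F ⊔ pCoreOf 2 K = K := by_contra fun k => by
    obtain ⟨N, n1, n2, n3⟩ := (s2.sup_of_le_normalizer (pCoreOf_le 2 K)
      (le_normalizer_pCoreOf 2 K)).exists_normal_lt_of_ne k
    exact nb (b'.res.symm.trans (pRes_eq_bot ((isPGroup_pCoreOf 2 K).to_le
      ((le_sup_left.trans n1).trans (h.simp N (le_sup_right.trans n1) n2 n3)))))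
  have e' := CP.pRes_sup_eq_of_snIn (p := 2) s2 le_rfl
  rw [e, h.res, b'.res] at e'
  exact e' ▸ b'

end Hy

end Cfsg.Agent.PLocal.Bk.APU
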