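import Cfsg.Agent.APU.Gen
import Cfsg.Agent.PLocal.CsA
import Cfsg.Agent.MacW.SR

/-!
Two conjugate blocks of type `A₃`: sectional rank at most four.
-/

set_option autoImplicit false
set_option linter.unusedSectionVars false

namespace Cfsg.Agent.PLocal.Bk.APU

open Subgroup Cfsg Cfsg.Agent.PLocal.Amb Cfsg.Agent.PLocal.TV Equiv
open scoped commutatorElement Cfsg.Agent.PLocal.CP

variable {G : Type*} [Group G] [Finite G]

theorem sec_of_small {U : Subgroup G} (hs : ∀ u ∈ U, u * u = 1) (hc : 𝐂[U] ≤ U)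
    (h8 : Nat.card U ≤ 8) : SectionalPRankLE 2 4 G := by
  have hU : IsPGroup 2 U := isPGroup_iff.2 fun u hu => ⟨1, by rw [pow_one, pow_two, hs u hu]⟩
  obtain ⟨S, hS, l⟩ := exists_isSyl_ge hU (le_top (a := U))
  obtain ⟨k, hk⟩ := hU.exists_card_eq
  have k3 : k ≤ 3 := by
    rw [hk] at h8
    exact (Nat.pow_le_pow_iff_right (by decide : 1 < 2)).1 h8
  have sq : ∀ v : Multiplicative (Fin (3 - k) → ZMod 2), v ^ 2 = 1 := fun v =>
    Multiplicative.toAdd.injective (funext fun i => by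
      rw [toAdd_pow, two_nsmul]; exact CharTwo.add_self_eq_zero _)
  refine (MacW.SR.syl hS (MacW.SR.of_sec (FGS.SecRank.of_injective
    (G := S × Multiplicative (Fin (3 - k) → ZMod 2)) (MacW.HB.harada (A := (U.subgroupOf S).prod ⊤)
      (fun g => ?_) (fun a ha => Prod.ext (Subtype.ext ?_) (sq _)) ?_ fun s h => ⟨?_, mem_top _⟩)
    (MonoidHom.inl _ _) fun a b e => congrArg Prod.fst e))).sec
  · obtain ⟨n, hn⟩ := hS.pgrp g.1
    refine ⟨n + 1, Prod.ext ?_ ?_⟩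
    · show g.1 ^ 2 ^ (n + 1) = 1
      rw [pow_succ, pow_mul, hn, one_pow]
    · show g.2 ^ 2 ^ (n + 1) = 1
      rw [pow_succ', pow_mul, sq, one_pow]
  · exact (pow_two (a.1 : G)).trans (hs _ ha.1)
  · rw [Nat.card_congr (prodEquiv _ _).toEquiv, Nat.card_prod, card_subgroupOf_of_le l, hk,
      card_top, Nat.card_congr Multiplicative.toAdd, Nat.card_fun, Nat.card_zmod,
      Nat.card_eq_fintype_card, Fintype.card_fin, ← pow_add, Nat.add_sub_cancel' k3]
    rfl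
  · exact hc fun a ha =>
      (congrArg (fun y => (y.1 : G)) (h (⟨a, l ha⟩, 1) ⟨ha, mem_top _⟩)).symm

set_option synthInstance.maxSize 1000 in
theorem r1_of_one {B K : Subgroup G} (h : Blk 2 B K) (hm : SymF 2 1 K) : R1 B K := by
  obtain ⟨ψ, φ, π, c, l⟩ := exists_pc h hm
  obtain ⟨A, a⟩ := h.exists_rt
  obtain ⟨y, hy, hy'⟩ := SetLike.not_le_iff_exists.1 a.nle
  have n := h.B_le_norm
  obtain rfl : A = B := le_antisymm a.le fun b hb => by
    rcases (by decide : ∀ π : Perm (Fin (2 * 1 + 1)), (∀ x, π (π x) = x) →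
      ∀ σ : Perm (Fin (2 * 1 + 1)), (∀ x, σ x = x ∨ σ x = π x) → ∀ τ : Perm (Fin (2 * 1 + 1)),
      (∀ x, τ x = x ∨ τ x = π x) → σ = 1 ∨ τ = 1 ∨ σ = τ) π
      l.pair.invol _ (l.memB y (a.le hy)) _ (l.memB b hb) with k | k | k
    · exact absurd ((l.ker y (n (a.le hy))).1 k) hy'
    · exact a.kle ⟨hb, (l.ker b (n hb)).1 k⟩
    · exact (mul_mem_cancel_left (inv_mem hy)).1 (a.kle (mem_inf.2
        ⟨mul_mem (inv_mem (a.le hy)) hb, l.of_eq (n (a.le hy)) (n hb) k⟩))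
  exact ⟨h, a⟩

theorem P2.two {K K' T : Subgroup G} {x : G} (p : P2 K K' T x) (hm : SymF 2 1 K) :
    SectionalPRankLE 2 4 G := by
  have r := r1_of_one p.h.blk hm
  have c1 := (p.pa r).card_K
  have c2 := (p.pa r).card_Z
  rw [p.h.blk.sym_rt ⟨1, hm⟩ r.rt] at c1 c2
  rw [p.K_eq] at c1
  exact sec_of_small (fun _ => p.sq) p.h.centQ (by omega)

end Cfsg.Agent.PLocal.Bk.APU
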